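import Mathlib
import Cfsg.Prelude.Def_Blocks
import Cfsg.Agent.Lib.Lead.CharBurnside
import Cfsg.Agent.Lib.Helper6.BlockRank3
import Cfsg.Agent.Lib.Helper6.BlockProj3
import Cfsg.Agent.Lib.Helper6.BlockIdem2
import Cfsg.Agent.Lib.Helper6.BlockKer
import Cfsg.Agent.Lib.Helper6.BlockPrin

set_option autoImplicit false

namespace Cfsg.Agent.Lib.Helper6

open Cfsg.Agent.Lib.Lead Cfsg.Agent.Lib.Helper2
open scoped ComplexConjugate

section BlockReal

/-- The complex conjugate of an irreducible character, as an irreducible character. -/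
noncomputable def irrConj {G : Type*} [Group G] [Fintype G] (ψ : Cfsg.IrrCharacter G) :
    Cfsg.IrrCharacter G :=
  ⟨fun g => conj ((ψ : G → ℂ) g), isIrrCharacter_conj ψ.2⟩

theorem irrConj_apply {G : Type*} [Group G] [Fintype G] (ψ : Cfsg.IrrCharacter G) (g : G) :
    (irrConj ψ : G → ℂ) g = conj ((ψ : G → ℂ) g) := rfl

theorem irrConj_irrConj {G : Type*} [Group G] [Fintype G] (ψ : Cfsg.IrrCharacter G) :
    irrConj (irrConj ψ) = ψ := by
  apply Subtype.ext
  funext g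
  show conj (conj ((ψ : G → ℂ) g)) = (ψ : G → ℂ) g
  rw [Complex.conj_conj]

theorem centralizer_inv_eq {G : Type*} [Group G] (g : G) :
    Subgroup.centralizer ({g⁻¹} : Set G) = Subgroup.centralizer ({g} : Set G) := by
  ext h
  rw [Subgroup.mem_centralizer_iff, Subgroup.mem_centralizer_iff]
  constructor
  · intro h1 x hx
    rw [Set.mem_singleton_iff.1 hx]
    have h2 : Commute g⁻¹ h := h1 g⁻¹ (Set.mem_singleton _)
    exact (Commute.inv_left_iff.1 h2).eq
  · intro h1 x hx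
    rw [Set.mem_singleton_iff.1 hx]
    have h2 : Commute g h := h1 g (Set.mem_singleton _)
    exact (Commute.inv_left_iff.2 h2).eq

theorem irr_one_conj {G : Type*} [Group G] [Fintype G] (ψ : Cfsg.IrrCharacter G) :
    conj ((ψ : G → ℂ) 1) = (ψ : G → ℂ) 1 := by
  rw [isIrrCharacter_one_eq_charDegree ψ.2, Complex.conj_natCast]

theorem cc_irrConj {G : Type*} [Group G] [Fintype G] (ψ : Cfsg.IrrCharacter G) (g : G) :
    Cfsg.centralChar (irrConj ψ : G → ℂ) g = Cfsg.centralChar (ψ : G → ℂ) g⁻¹ := by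
  unfold Cfsg.centralChar
  rw [irrConj_apply, irrConj_apply, irr_one_conj, centralizer_inv_eq,
    isCharacter_inv_eq_conj (isCharacter_of_isIrrCharacter ψ.2) g]

theorem cc_inv_real {G : Type*} [Group G] [Fintype G] (χ : Cfsg.IrrCharacter G)
    (hreal : ∀ g : G, ((χ : G → ℂ) g).im = 0) (g : G) :
    Cfsg.centralChar (χ : G → ℂ) g⁻¹ = Cfsg.centralChar (χ : G → ℂ) g := by
  unfold Cfsg.centralChar
  rw [centralizer_inv_eq, isCharacter_inv_eq_conj (isCharacter_of_isIrrCharacter χ.2) g,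
    Complex.conj_eq_iff_im.2 (hreal g)]

theorem real_block_conj {G : Type*} [Group G] [Fintype G] (M : Ideal Cfsg.AlgInt)
    (χ : Cfsg.IrrCharacter G) (hreal : ∀ g : G, ((χ : G → ℂ) g).im = 0)
    (ψ : Cfsg.IrrCharacter G) (hψ : ψ ∈ Cfsg.blockOf M (χ : G → ℂ)) :
    irrConj ψ ∈ Cfsg.blockOf M (χ : G → ℂ) := by
  intro g
  have h1 := hψ g⁻¹
  rw [cc_inv_real χ hreal g] at h1
  rw [cc_irrConj]
  exact h1

theorem real_block_coeff_inv {G : Type*} [Group G] [Fintype G] (M : Ideal Cfsg.AlgInt)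
    (χ : Cfsg.IrrCharacter G) (hreal : ∀ g : G, ((χ : G → ℂ) g).im = 0) (g : G) :
    Cfsg.blockCoeff (Cfsg.blockOf M (χ : G → ℂ)) g⁻¹
      = Cfsg.blockCoeff (Cfsg.blockOf M (χ : G → ℂ)) g := by
  classical
  haveI : Finite (Cfsg.IrrCharacter G) := irr_finite'
  unfold Cfsg.blockCoeff
  congr 1
  rw [finsum_mem_eq_finite_toFinset_sum _ (Set.toFinite _),
    finsum_mem_eq_finite_toFinset_sum _ (Set.toFinite _)]
  apply Finset.sum_nbij' irrConj irrConj
  · intro ψ hψ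
    rw [Set.Finite.mem_toFinset] at hψ ⊢
    exact real_block_conj M χ hreal ψ hψ
  · intro ψ hψ
    rw [Set.Finite.mem_toFinset] at hψ ⊢
    exact real_block_conj M χ hreal ψ hψ
  · intro ψ _
    exact irrConj_irrConj ψ
  · intro ψ _
    exact irrConj_irrConj ψ
  · intro ψ _
    rw [irrConj_apply, irrConj_apply, irr_one_conj, Complex.conj_conj,
      isCharacter_inv_eq_conj (isCharacter_of_isIrrCharacter ψ.2) g, Complex.conj_conj]

/-- A real-valued irreducible character of odd degree lies in the principal `2`-block. -/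
theorem real_odd_principal {G : Type*} [Group G] [Fintype G] (M : Ideal Cfsg.AlgInt)
    (hM : Cfsg.IsPModular 2 M) (χ : Cfsg.IrrCharacter G)
    (hreal : ∀ g : G, ((χ : G → ℂ) g).im = 0) (hodd : Odd (Cfsg.charDegree (χ : G → ℂ))) :
    χ ∈ Cfsg.principalBlock M G := by
  classical
  haveI : Finite (Cfsg.IrrCharacter G) := irr_finite'
  letI := Fintype.ofFinite (Cfsg.IrrCharacter G)
  have hMp := hM.2.1.isPrime
  obtain ⟨B, hBdef⟩ : ∃ B : Set (Cfsg.IrrCharacter G), B = Cfsg.blockOf M (χ : G → ℂ) :=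
    ⟨_, rfl⟩
  have hB : Cfsg.IsPBlock M B := ⟨χ, hBdef⟩
  have hχB : χ ∈ B := by
    rw [hBdef]
    exact sb_refl hMp _
  have hcl := block_closed M hMp B hB
  have hχ1 := isIrrCharacter_one_eq_charDegree χ.2
  have hdpos := charDegree_pos_of_irr χ.2
  have hχne : (χ : G → ℂ) 1 ≠ 0 := by
    rw [hχ1]
    exact_mod_cast hdpos.ne'
  obtain ⟨one, hone⟩ : ∃ one : Cfsg.IrrCharacter G, (one : G → ℂ) = fun _ => (1 : ℂ) :=
    ⟨⟨fun _ => 1, isIrrCharacter_one G⟩, rfl⟩
  suffices h : one ∈ B by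
    rw [hBdef] at h
    have h2 : Cfsg.SameBlock M (χ : G → ℂ) (fun _ : G => (1 : ℂ)) := by
      rw [← hone]
      exact h
    exact sb_symm hMp h2
  by_contra hnot
  have h1 := bb_idem_value B one
  rw [if_neg hnot] at h1
  have h2 := bb_idem_value B χ
  rw [if_pos hχB] at h2
  -- the terms
  obtain ⟨t, ht⟩ : ∃ t : G → ℂ, ∀ g, t g = Cfsg.blockCoeff B g
      * ((χ : G → ℂ) g / (χ : G → ℂ) 1 - 1) := ⟨fun g => _, fun _ => rfl⟩
  have hsum : ∑ g : G, t g = 1 := by
    have h3 : ∀ g : G, t g = Cfsg.blockCoeff B g * ((χ : G → ℂ) g / (χ : G → ℂ) 1)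
        - Cfsg.blockCoeff B g * ((one : G → ℂ) g / (one : G → ℂ) 1) := by
      intro g
      rw [ht, hone]
      ring
    rw [Finset.sum_congr rfl (fun g _ => h3 g), Finset.sum_sub_distrib, h1, h2, sub_zero]
  have htlr : ∀ g : G, Cfsg.MemLocalRing M (t g) := by
    intro g
    rw [ht]
    have ha := (mem_lrSub hMp _).2 (osima_closed 2 M hM B hcl g)
    have hb : (χ : G → ℂ) g / (χ : G → ℂ) 1 ∈ lrSub M hMp := by
      rw [hχ1]
      exact (mem_lrSub hMp _).2 (lr_div_nat 2 M hM (bcf_irr_isIntegral χ.2 g) _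
        hodd.not_two_dvd_nat)
    exact (mem_lrSub hMp _).1 ((lrSub M hMp).mul_mem ha
      ((lrSub M hMp).sub_mem hb (lrSub M hMp).one_mem))
  have htinv : ∀ g : G, t g⁻¹ = t g := by
    intro g
    rw [ht, ht, hBdef, real_block_coeff_inv M χ hreal g,
      isCharacter_inv_eq_conj (isCharacter_of_isIrrCharacter χ.2) g,
      Complex.conj_eq_iff_im.2 (hreal g)]
  have htfix : ∀ g : G, g⁻¹ = g → t g = 0 := by
    intro g hg
    have hsq : g ^ 2 = 1 := by
      rw [pow_two]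
      nth_rewrite 1 [← hg]
      exact inv_mul_cancel g
    have hdvd := orderOf_dvd_of_pow_eq_one hsq
    rcases (Nat.dvd_prime Nat.prime_two).1 hdvd with h | h
    · rw [orderOf_eq_one_iff] at h
      rw [ht, h, div_self hχne, sub_self, mul_zero]
    · rw [ht, blockCoeff_psingular 2 M hM B hcl g (by rw [h]), zero_mul]
  obtain ⟨t', ht'⟩ : ∃ t' : G → lrSub M hMp, ∀ g, ((t' g : lrSub M hMp) : ℂ) = t g :=
    ⟨fun g => ⟨t g, (mem_lrSub hMp _).2 (htlr g)⟩, fun _ => rfl⟩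
  have hzero : ∑ g : G, Ideal.Quotient.mk (liIdeal M hMp) (t' g) = 0 := by
    apply Finset.sum_ninvolution (fun g : G => g⁻¹)
    · intro g
      have h3 : t' g⁻¹ = t' g := Subtype.ext (by rw [ht', ht', htinv g])
      rw [h3, ← map_add, Ideal.Quotient.eq_zero_iff_mem]
      show Cfsg.MemLocalIdeal M (((t' g + t' g : lrSub M hMp)) : ℂ)
      have h4 : (((t' g + t' g : lrSub M hMp)) : ℂ) = t g * ((2 : ℕ) : ℂ) := by
        push_cast
        rw [ht']
        ring
      rw [h4]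
      exact li_mul hMp (htlr g) (li_natCast_p 2 M hM)
    · intro g hne hg
      apply hne
      have h3 : t' g = 0 := Subtype.ext (by rw [ht', htfix g hg]; rfl)
      rw [h3, map_zero]
    · intro g
      exact Finset.mem_univ _
    · intro g
      exact inv_inv g
  rw [← map_sum, Ideal.Quotient.eq_zero_iff_mem] at hzero
  have h5 : Cfsg.MemLocalIdeal M ((lrSub M hMp).subtype (∑ g : G, t' g)) := hzero
  rw [map_sum] at h5
  have h6 : ∑ g : G, (lrSub M hMp).subtype (t' g) = 1 := by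
    rw [← hsum]
    apply Finset.sum_congr rfl
    intro g _
    exact ht' g
  rw [h6] at h5
  exact li_one M h5

/-- The number of elements of odd order in a finite group is odd. -/
theorem odd_order_count {G : Type*} [Group G] [Fintype G] :
    ¬ 2 ∣ ∑ g : G, (if 2 ∣ orderOf g then 0 else 1 : ℕ) := by
  classical
  intro hdvd
  have h0 : ((∑ g : G, (if 2 ∣ orderOf g then 0 else 1 : ℕ) : ℕ) : ZMod 2) = 0 :=
    (ZMod.natCast_eq_zero_iff _ 2).2 hdvd
  rw [Nat.cast_sum] at h0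
  have hsplit : ∀ g : G, (((if 2 ∣ orderOf g then 0 else 1 : ℕ) : ℕ) : ZMod 2)
      = (if g = 1 then 1 else 0)
        + (if g = 1 then 0 else if 2 ∣ orderOf g then 0 else 1) := by
    intro g
    by_cases hg : g = 1
    · rw [hg, orderOf_one]
      simp
    · by_cases h2 : 2 ∣ orderOf g
      · simp [hg, h2]
      · simp [hg, h2]
  rw [Finset.sum_congr rfl (fun g _ => hsplit g), Finset.sum_add_distrib,
    Finset.sum_ite_eq', if_pos (Finset.mem_univ _)] at h0
  have hinv : ∑ g : G, (if g = 1 then (0 : ZMod 2) else if 2 ∣ orderOf g then 0 else 1)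
      = 0 := by
    apply Finset.sum_ninvolution (fun g : G => g⁻¹)
    · intro g
      have h1 : (g⁻¹ = 1) ↔ (g = 1) := inv_eq_one
      rw [orderOf_inv]
      simp only [h1]
      exact CharTwo.add_self_eq_zero _
    · intro g hne hg
      apply hne
      by_cases h1 : g = 1
      · rw [if_pos h1]
      · rw [if_neg h1]
        have hsq : g ^ 2 = 1 := by
          rw [pow_two]
          nth_rewrite 1 [← hg]
          exact inv_mul_cancel g
        have hdvd2 := orderOf_dvd_of_pow_eq_one hsq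
        rcases (Nat.dvd_prime Nat.prime_two).1 hdvd2 with h | h
        · exact absurd (orderOf_eq_one_iff.1 h) h1
        · rw [if_pos (by rw [h])]
    · intro g
      exact Finset.mem_univ _
    · intro g
      exact inv_inv g
  rw [hinv, add_zero] at h0
  exact absurd h0 (by decide)

/-- There are at most `4 ^ n` real-valued irreducible characters of odd degree. -/
theorem real_odd_count {G : Type*} [Group G] [Fintype G] (M : Ideal Cfsg.AlgInt)
    (hM : Cfsg.IsPModular 2 M) :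
    Nat.card {χ : Cfsg.IrrCharacter G // (∀ g : G, ((χ : G → ℂ) g).im = 0) ∧
      Odd (Cfsg.charDegree (χ : G → ℂ))} ≤ 2 ^ (2 * (Nat.card G).factorization 2) := by
  classical
  haveI : Fact (Nat.Prime 2) := ⟨Nat.prime_two⟩
  haveI : Finite (Cfsg.IrrCharacter G) := irr_finite'
  letI := Fintype.ofFinite (Cfsg.IrrCharacter G)
  have hMp := hM.2.1.isPrime
  have hGne : (Nat.card G : ℂ) ≠ 0 := by exact_mod_cast (Nat.card_pos (α := G)).ne'
  obtain ⟨n, hn⟩ : ∃ n, n = (Nat.card G).factorization 2 := ⟨_, rfl⟩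
  rw [← hn]
  obtain ⟨one, hone⟩ : ∃ one : Cfsg.IrrCharacter G, (one : G → ℂ) = fun _ => (1 : ℂ) :=
    ⟨⟨fun _ => 1, isIrrCharacter_one G⟩, rfl⟩
  have hB₀ : Cfsg.IsPBlock M (Cfsg.principalBlock M G) := principal_isPBlock M G
  have hone_mem : one ∈ Cfsg.principalBlock M G := by
    show Cfsg.SameBlock M (fun _ : G => (1 : ℂ)) (one : G → ℂ)
    rw [hone]
    exact sb_refl hMp _
  have hdeg1 : Cfsg.charDegree (one : G → ℂ) = 1 := by
    have h1 := isIrrCharacter_one_eq_charDegree one.2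
    rw [hone] at h1 ⊢
    have h2 : ((Cfsg.charDegree (fun _ : G => (1:ℂ)) : ℕ) : ℂ) = 1 := h1.symm
    exact_mod_cast h2
  obtain ⟨m, hm0, hm⟩ := preg_coeffs 2 M hM _ hB₀ one hone_mem
  simp only [hdeg1, Nat.factorization_one, Finsupp.coe_zero, Pi.zero_apply, Nat.sub_zero,
    ← hn] at hm
  have hL : ∀ x : G, (if 2 ∣ orderOf x then (0 : ℂ) else ((2 ^ n : ℕ) : ℂ))
      = ∑ ψ : Cfsg.IrrCharacter G, (m ψ : ℂ) * (ψ : G → ℂ) x := by
    intro x
    rw [← finsum_eq_sum_of_fintype, ← hm x, hone, mul_one]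
  have hconjL : ∀ x : G, conj (∑ ψ : Cfsg.IrrCharacter G, (m ψ : ℂ) * (ψ : G → ℂ) x)
      = ∑ ψ : Cfsg.IrrCharacter G, (m ψ : ℂ) * conj ((ψ : G → ℂ) x) := by
    intro x
    rw [map_sum]
    apply Finset.sum_congr rfl
    intro ψ _
    rw [map_mul, map_intCast]
  have hinner : ∀ ψ : Cfsg.IrrCharacter G,
      ∑ x : G, (∑ θ : Cfsg.IrrCharacter G, (m θ : ℂ) * (θ : G → ℂ) x)
      * conj ((ψ : G → ℂ) x) = (Nat.card G : ℂ) * (m ψ : ℂ) :=
    fun ψ => comb_inner Finset.univ (fun θ => (m θ : ℂ)) ψ (Finset.mem_univ ψ)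
  obtain ⟨r, hr⟩ : ∃ r : ℕ, r = ∑ g : G, (if 2 ∣ orderOf g then 0 else 1 : ℕ) := ⟨_, rfl⟩
  have hrC : (r : ℂ) = ∑ g : G, (if 2 ∣ orderOf g then (0 : ℂ) else 1) := by
    rw [hr, Nat.cast_sum]
    apply Finset.sum_congr rfl
    intro g _
    split_ifs <;> simp
  have hrodd : ¬ 2 ∣ r := by
    rw [hr]
    exact odd_order_count
  have hrle : r ≤ Nat.card G := by
    rw [hr, Nat.card_eq_fintype_card, ← Finset.card_univ, Finset.card_eq_sum_ones]
    apply Finset.sum_le_sum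
    intro g _
    split_ifs <;> omega
  have hE : (Nat.card G : ℂ) * ∑ ψ : Cfsg.IrrCharacter G, (m ψ : ℂ) * (m ψ : ℂ)
      = ((2 ^ n : ℕ) : ℂ) * ((2 ^ n : ℕ) : ℂ) * (r : ℂ) := by
    have hA : ∑ x : G, (∑ θ : Cfsg.IrrCharacter G, (m θ : ℂ) * (θ : G → ℂ) x)
        * conj (∑ ψ : Cfsg.IrrCharacter G, (m ψ : ℂ) * (ψ : G → ℂ) x)
        = (Nat.card G : ℂ) * ∑ ψ : Cfsg.IrrCharacter G, (m ψ : ℂ) * (m ψ : ℂ) := by
      have h3 : ∀ x : G, (∑ θ : Cfsg.IrrCharacter G, (m θ : ℂ) * (θ : G → ℂ) x)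
          * conj (∑ ψ : Cfsg.IrrCharacter G, (m ψ : ℂ) * (ψ : G → ℂ) x)
          = ∑ ψ : Cfsg.IrrCharacter G, (m ψ : ℂ)
            * ((∑ θ : Cfsg.IrrCharacter G, (m θ : ℂ) * (θ : G → ℂ) x)
            * conj ((ψ : G → ℂ) x)) := by
        intro x
        rw [hconjL x, Finset.mul_sum]
        apply Finset.sum_congr rfl
        intro ψ _
        ring
      rw [Finset.sum_congr rfl (fun x _ => h3 x), Finset.sum_comm, Finset.mul_sum]
      apply Finset.sum_congr rfl
      intro ψ _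
      rw [← Finset.mul_sum, hinner ψ]
      ring
    rw [← hA, hrC, Finset.mul_sum]
    apply Finset.sum_congr rfl
    intro x _
    rw [← hL x]
    by_cases hx : 2 ∣ orderOf x
    · simp [hx]
    · rw [if_neg hx, if_neg hx, Complex.conj_natCast, mul_one]
  have hF : ∀ χ : Cfsg.IrrCharacter G, (∀ g : G, ((χ : G → ℂ) g).im = 0) →
      Odd (Cfsg.charDegree (χ : G → ℂ)) → m χ ≠ 0 := by
    intro χ hreal hodd hm0'
    have hχB := real_odd_principal M hM χ hreal hodd
    have hχ1 := isIrrCharacter_one_eq_charDegree χ.2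
    have hS : ∑ x : G, (if 2 ∣ orderOf x then (0 : ℂ) else 1) * (χ : G → ℂ) x = 0 := by
      have h1 := hinner χ
      rw [hm0', Int.cast_zero, mul_zero] at h1
      simp only [← hL] at h1
      have h2 : ∑ x : G, (if 2 ∣ orderOf x then (0 : ℂ) else ((2 ^ n : ℕ) : ℂ))
          * conj ((χ : G → ℂ) x)
          = ((2 ^ n : ℕ) : ℂ)
            * ∑ x : G, (if 2 ∣ orderOf x then (0 : ℂ) else 1) * (χ : G → ℂ) x := by
        rw [Finset.mul_sum]
        apply Finset.sum_congr rfl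
        intro x _
        rw [Complex.conj_eq_iff_im.2 (hreal x)]
        split_ifs <;> ring
      rw [h2] at h1
      rcases mul_eq_zero.1 h1 with h | h
      · exact absurd h (by exact_mod_cast (pow_pos (by norm_num : 0 < 2) n).ne')
      · exact h
    obtain ⟨F, hFdef⟩ : ∃ F : G → ℂ, ∀ x, F x = if 2 ∣ orderOf x then (0 : ℂ) else 1 :=
      ⟨fun x => _, fun _ => rfl⟩
    have hFcl : ∀ a c : G, F (c * a * c⁻¹) = F a := by
      intro a c
      rw [hFdef, hFdef]
      have hord : orderOf (c * a * c⁻¹) = orderOf a := (MulAut.conj c).orderOf_eq a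
      rw [hord]
    have hFlr : ∀ x : G, Cfsg.MemLocalRing M (F x) := by
      intro x
      rw [hFdef]
      split_ifs
      · exact lr_int 2 M hM isIntegral_zero
      · exact lr_int 2 M hM isIntegral_one
    have hW : ∑ g : G, F g * ((χ : G → ℂ) g / (χ : G → ℂ) 1) = 0 := by
      have h3 : ∑ g : G, F g * ((χ : G → ℂ) g / (χ : G → ℂ) 1)
          = (∑ g : G, F g * (χ : G → ℂ) g) / (χ : G → ℂ) 1 := by
        rw [Finset.sum_div]
        apply Finset.sum_congr rfl
        intro g _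
        rw [mul_div_assoc]
      rw [h3]
      simp only [hFdef]
      rw [hS, zero_div]
    have hU : ∑ g : G, F g * ((one : G → ℂ) g / (one : G → ℂ) 1) = (r : ℂ) := by
      rw [hrC]
      apply Finset.sum_congr rfl
      intro g _
      rw [hFdef, hone]
      simp
    have h1 := bcf_class_sum F hFcl χ
    have h2 := bcf_class_sum F hFcl one
    rw [hW] at h1
    rw [hU] at h2
    have h3 := congrArg₂ (fun a b : ℂ => a - b) h2 h1
    simp only [sub_zero, ← Finset.sum_sub_distrib, ← mul_sub] at h3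
    have hsb : Cfsg.SameBlock M (one : G → ℂ) (χ : G → ℂ) := by
      rw [hone]
      exact hχB
    have hli : Cfsg.MemLocalIdeal M (r : ℂ) := by
      rw [h3]
      apply li_sum hMp
      intro C _
      exact li_mul hMp (hFlr _) (hsb (Quotient.out C))
    exact hrodd (li_nat_dvd 2 M hM r hli)
  obtain ⟨R, hR⟩ : ∃ R : Finset (Cfsg.IrrCharacter G),
      R = Finset.univ.filter (fun χ : Cfsg.IrrCharacter G =>
        (∀ g : G, ((χ : G → ℂ) g).im = 0) ∧ Odd (Cfsg.charDegree (χ : G → ℂ))) := ⟨_, rfl⟩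
  have hcard : Nat.card {χ : Cfsg.IrrCharacter G // (∀ g : G, ((χ : G → ℂ) g).im = 0) ∧
      Odd (Cfsg.charDegree (χ : G → ℂ))} = R.card := by
    rw [Nat.card_eq_fintype_card, Fintype.card_subtype, hR]
  rw [hcard]
  have h2 : ∀ ψ ∈ R, (1 : ℤ) ≤ m ψ * m ψ := by
    intro ψ hψ
    rw [hR, Finset.mem_filter] at hψ
    have h4 : 0 < m ψ * m ψ := mul_self_pos.2 (hF ψ hψ.2.1 hψ.2.2)
    omega
  have h1 : ((R.card : ℤ)) ≤ ∑ ψ : Cfsg.IrrCharacter G, m ψ * m ψ := by
    calc (R.card : ℤ) = ∑ ψ ∈ R, (1 : ℤ) := by simp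
      _ ≤ ∑ ψ ∈ R, m ψ * m ψ := Finset.sum_le_sum h2
      _ ≤ ∑ ψ : Cfsg.IrrCharacter G, m ψ * m ψ :=
          Finset.sum_le_sum_of_subset_of_nonneg (Finset.subset_univ R)
            (fun ψ _ _ => mul_self_nonneg (m ψ))
  have hEZ : (Nat.card G : ℤ) * ∑ ψ : Cfsg.IrrCharacter G, m ψ * m ψ
      = ((2 ^ n : ℕ) : ℤ) * ((2 ^ n : ℕ) : ℤ) * (r : ℤ) := by exact_mod_cast hE
  have hQ : ∑ ψ : Cfsg.IrrCharacter G, m ψ * m ψ
      ≤ ((2 ^ n : ℕ) : ℤ) * ((2 ^ n : ℕ) : ℤ) := by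
    have hGpos : (0 : ℤ) < (Nat.card G : ℤ) := by exact_mod_cast Nat.card_pos
    apply le_of_mul_le_mul_left _ hGpos
    rw [hEZ]
    have h5 : (r : ℤ) ≤ (Nat.card G : ℤ) := by exact_mod_cast hrle
    have h6 : (0 : ℤ) ≤ ((2 ^ n : ℕ) : ℤ) * ((2 ^ n : ℕ) : ℤ) := by positivity
    calc ((2 ^ n : ℕ) : ℤ) * ((2 ^ n : ℕ) : ℤ) * (r : ℤ)
        ≤ ((2 ^ n : ℕ) : ℤ) * ((2 ^ n : ℕ) : ℤ) * (Nat.card G : ℤ) :=
          mul_le_mul_of_nonneg_left h5 h6
      _ = (Nat.card G : ℤ) * (((2 ^ n : ℕ) : ℤ) * ((2 ^ n : ℕ) : ℤ)) := by ring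
  have h7 : (R.card : ℤ) ≤ ((2 ^ (2 * n) : ℕ) : ℤ) := by
    have h8 : ((2 ^ (2 * n) : ℕ) : ℤ) = ((2 ^ n : ℕ) : ℤ) * ((2 ^ n : ℕ) : ℤ) := by
      push_cast
      ring
    rw [h8]
    exact h1.trans hQ
  exact_mod_cast h7

/-- S4483. -/
theorem real_odd_main {G : Type*} [Group G] [Finite G] (M : Ideal Cfsg.AlgInt)
    (hM : Cfsg.IsPModular 2 M) :
    (∀ χ : Cfsg.IrrCharacter G, (∀ g : G, ((χ : G → ℂ) g).im = 0) →
      Odd (Cfsg.charDegree (χ : G → ℂ)) → χ ∈ Cfsg.principalBlock M G) ∧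
    Nat.card {χ : Cfsg.IrrCharacter G // (∀ g : G, ((χ : G → ℂ) g).im = 0) ∧
      Odd (Cfsg.charDegree (χ : G → ℂ))} ≤ 2 ^ (2 * (Nat.card G).factorization 2) := by
  letI := Fintype.ofFinite G
  exact ⟨fun χ hreal hodd => real_odd_principal M hM χ hreal hodd, real_odd_count M hM⟩

end BlockReal

end Cfsg.Agent.Lib.Helper6
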