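import Mathlib
import Cfsg.Prelude.Def_Blocks
import Cfsg.Agent.Lib.Helper6.BlockReal
import Cfsg.Agent.Lib.Helper6.BlockDiv
import Cfsg.Agent.Lib.Helper6.BlockDefect

set_option autoImplicit false

namespace Cfsg.Agent.Lib.Helper6

open Cfsg.Agent.Lib.Lead Cfsg.Agent.Lib.Helper2
open scoped ComplexConjugate

section BlockReal2

/-- Idempotent coefficients of a conjugation-closed set of characters are inversion
invariant. -/
theorem conj_closed_coeff_inv {G : Type*} [Group G] [Fintype G]
    (B : Set (Cfsg.IrrCharacter G)) (hconj : ∀ ψ ∈ B, irrConj ψ ∈ B) (g : G) :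
    Cfsg.blockCoeff B g⁻¹ = Cfsg.blockCoeff B g := by
  classical
  haveI : Finite (Cfsg.IrrCharacter G) := irr_finite'
  unfold Cfsg.blockCoeff
  congr 1
  rw [finsum_mem_eq_finite_toFinset_sum _ (Set.toFinite _),
    finsum_mem_eq_finite_toFinset_sum _ (Set.toFinite _)]
  apply Finset.sum_nbij' irrConj irrConj
  · intro ψ hψ
    rw [Set.Finite.mem_toFinset] at hψ ⊢
    exact hconj ψ hψ
  · intro ψ hψ
    rw [Set.Finite.mem_toFinset] at hψ ⊢
    exact hconj ψ hψ
  · intro ψ _
    exact irrConj_irrConj ψ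
  · intro ψ _
    exact irrConj_irrConj ψ
  · intro ψ _
    rw [irrConj_apply, irrConj_apply, irr_one_conj, Complex.conj_conj,
      isCharacter_inv_eq_conj (isCharacter_of_isIrrCharacter ψ.2) g, Complex.conj_conj]

/-- The central character is constant on conjugacy classes. -/
theorem cc_conj_invariant {G : Type*} [Group G] [Fintype G] (χ : Cfsg.IrrCharacter G)
    {g h : G} (hgh : IsConj g h) :
    Cfsg.centralChar (χ : G → ℂ) g = Cfsg.centralChar (χ : G → ℂ) h := by
  classical
  unfold Cfsg.centralChar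
  have h1 : classFinset g = classFinset h := by
    ext x
    rw [mem_classFinset, mem_classFinset]
    exact ⟨fun hx => hgh.symm.trans hx, fun hx => hgh.trans hx⟩
  rw [← card_classFinset g, ← card_classFinset h, h1]
  obtain ⟨c, rfl⟩ := isConj_iff.1 hgh
  rw [isClassFunction_irr χ g c]

/-- A real class of nontrivial elements of odd order has even size. -/
theorem real_class_even {G : Type*} [Group G] [Fintype G] (g : G) (hodd : ¬ 2 ∣ orderOf g)
    (hg1 : g ≠ 1) (hreal : IsConj g g⁻¹) : 2 ∣ (classFinset g).card := by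
  classical
  rw [← ZMod.natCast_eq_zero_iff _ 2, Finset.card_eq_sum_ones, Nat.cast_sum]
  apply Finset.sum_involution (fun x _ => x⁻¹)
  · intro x hx
    simp only [Nat.cast_one]
    exact CharTwo.add_self_eq_zero _
  · intro x hx _ hfix
    obtain ⟨c, rfl⟩ := isConj_iff.1 (mem_classFinset.1 hx)
    have hsq : (c * g * c⁻¹) ^ 2 = 1 := by
      rw [pow_two]
      nth_rewrite 1 [← hfix]
      exact inv_mul_cancel _
    rw [conj_pow, conj_eq_one_iff] at hsq
    have hdvd := orderOf_dvd_of_pow_eq_one hsq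
    rcases (Nat.dvd_prime Nat.prime_two).1 hdvd with h | h
    · exact hg1 (orderOf_eq_one_iff.1 h)
    · exact hodd (by rw [h])
  · intro x hx
    exact inv_inv x
  · intro x hx
    rw [mem_classFinset] at hx ⊢
    obtain ⟨c, rfl⟩ := isConj_iff.1 hx
    exact hreal.trans (isConj_iff.2 ⟨c, conj_inv.symm⟩)

/-- A `2`-block of full defect closed under complex conjugation is the principal block. -/
theorem real_full_principal {G : Type*} [Group G] [Fintype G] (M : Ideal Cfsg.AlgInt)
    (hM : Cfsg.IsPModular 2 M) (B : Set (Cfsg.IrrCharacter G)) (hB : Cfsg.IsPBlock M B)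
    (P : Sylow 2 G) (hfull : Cfsg.IsDefectGroup 2 M B (P : Subgroup G))
    (hconj : ∀ ψ ∈ B, irrConj ψ ∈ B) : B = Cfsg.principalBlock M G := by
  classical
  haveI : Fact (Nat.Prime 2) := ⟨Nat.prime_two⟩
  haveI : Finite (Cfsg.IrrCharacter G) := irr_finite'
  letI := Fintype.ofFinite (Cfsg.IrrCharacter G)
  have hMp := hM.2.1.isPrime
  have hM1 : (1 : Cfsg.AlgInt) ∉ M := (Ideal.ne_top_iff_one M).1 hMp.ne_top
  have hcl := block_closed M hMp B hB
  -- a character of odd degree
  obtain ⟨χ, hχB, hχht⟩ := exists_height_zero M hMp 2 B hB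
  have hcard := defect_group_card 2 M hM B hB (P : Subgroup G) hfull
  have hP : Nat.card (P : Subgroup G) = 2 ^ (Nat.card G).factorization 2 :=
    P.card_eq_multiplicity
  have hdef : Cfsg.blockDefect 2 B = (Nat.card G).factorization 2 := by
    apply Nat.pow_right_injective (le_refl 2)
    show 2 ^ Cfsg.blockDefect 2 B = 2 ^ (Nat.card G).factorization 2
    rw [← hcard, ← hP]
  have hχ1 := isIrrCharacter_one_eq_charDegree χ.2
  have hdpos := charDegree_pos_of_irr χ.2
  have hdvd : Cfsg.charDegree (χ : G → ℂ) ∣ Nat.card G := irr_degree_dvd_card χ _ hχ1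
  have hle : (Cfsg.charDegree (χ : G → ℂ)).factorization 2 ≤ (Nat.card G).factorization 2 :=
    (Nat.factorization_le_iff_dvd hdpos.ne' Nat.card_pos.ne').2 hdvd 2
  have hodd : ¬ 2 ∣ Cfsg.charDegree (χ : G → ℂ) := by
    unfold Cfsg.blockDefect at hdef
    rw [← hχht] at hdef
    intro h2
    have := Nat.Prime.factorization_pos_of_dvd Nat.prime_two hdpos.ne' h2
    omega
  have hχne : (χ : G → ℂ) 1 ≠ 0 := by
    rw [hχ1]
    exact_mod_cast hdpos.ne'
  obtain ⟨one, hone⟩ : ∃ one : Cfsg.IrrCharacter G, (one : G → ℂ) = fun _ => (1 : ℂ) :=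
    ⟨⟨fun _ => 1, isIrrCharacter_one G⟩, rfl⟩
  have hone_real : ∀ g : G, ((one : G → ℂ) g).im = 0 := by
    intro g
    rw [hone]
    exact Complex.one_im
  obtain ⟨χ₀, hB0⟩ := hB
  suffices h : one ∈ B by
    rw [hB0] at h ⊢
    have h2 : Cfsg.SameBlock M (χ₀ : G → ℂ) (fun _ : G => (1 : ℂ)) := by
      rw [← hone]
      exact h
    ext ψ
    constructor
    · intro hψ
      exact sb_trans hMp (sb_symm hMp h2) hψ
    · intro hψ
      exact sb_trans hMp h2 hψ
  by_contra hnot
  have h1 := bb_idem_value B one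
  rw [if_neg hnot, bcf_class_sum _ (fun r c => bb_coeff_class B r c) one] at h1
  have h2 := bb_idem_value B χ
  rw [if_pos hχB, bcf_class_sum _ (fun r c => bb_coeff_class B r c) χ] at h2
  obtain ⟨T, hT⟩ : ∃ T : ConjClasses G → ℂ, ∀ C, T C = Cfsg.blockCoeff B (Quotient.out C)
      * (Cfsg.centralChar (χ : G → ℂ) (Quotient.out C)
        - Cfsg.centralChar (one : G → ℂ) (Quotient.out C)) := ⟨fun C => _, fun _ => rfl⟩
  have hsum : ∑ C : ConjClasses G, T C = 1 := by
    rw [Finset.sum_congr rfl (fun C _ => hT C)]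
    simp only [mul_sub]
    rw [Finset.sum_sub_distrib, h1, h2, sub_zero]
  have hTlr : ∀ C, Cfsg.MemLocalRing M (T C) := by
    intro C
    rw [hT]
    have ha := (mem_lrSub hMp _).2 (osima_closed 2 M hM B hcl (Quotient.out C))
    have hb := (mem_lrSub hMp _).2 (lr_int 2 M hM (cc_isIntegral χ (Quotient.out C)))
    have hc := (mem_lrSub hMp _).2 (lr_int 2 M hM (cc_isIntegral one (Quotient.out C)))
    exact (mem_lrSub hMp _).1 ((lrSub M hMp).mul_mem ha ((lrSub M hMp).sub_mem hb hc))
  have hTrep : ∀ (C : ConjClasses G) (g : G), ConjClasses.mk g = C →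
      T C = Cfsg.blockCoeff B g * (Cfsg.centralChar (χ : G → ℂ) g
        - Cfsg.centralChar (one : G → ℂ) g) := by
    intro C g hg
    have hconj' : IsConj (Quotient.out C) g := by
      rw [← ConjClasses.mk_eq_mk_iff_isConj, hg]
      exact Quotient.out_eq C
    rw [hT, cc_conj_invariant χ hconj', cc_conj_invariant one hconj']
    obtain ⟨c, hc⟩ := isConj_iff.1 hconj'
    rw [← hc, bb_coeff_class]
  obtain ⟨ι, hι⟩ : ∃ ι : ConjClasses G → ConjClasses G,
      ∀ C, ι C = ConjClasses.mk (Quotient.out C)⁻¹ := ⟨fun C => _, fun _ => rfl⟩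
  have hιmk : ∀ g : G, ι (ConjClasses.mk g) = ConjClasses.mk g⁻¹ := by
    intro g
    rw [hι, ConjClasses.mk_eq_mk_iff_isConj]
    have h3 : IsConj (Quotient.out (ConjClasses.mk g)) g := by
      rw [← ConjClasses.mk_eq_mk_iff_isConj]
      exact Quotient.out_eq _
    obtain ⟨c, hc⟩ := isConj_iff.1 h3
    rw [isConj_iff]
    refine ⟨c, ?_⟩
    rw [← conj_inv, hc]
  have hιι : ∀ C, ι (ι C) = C := by
    intro C
    rw [hι C, hιmk, inv_inv]
    exact Quotient.out_eq C
  have hTι : ∀ C, T (ι C) = Cfsg.blockCoeff B (Quotient.out C)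
      * (Cfsg.centralChar (irrConj χ : G → ℂ) (Quotient.out C)
        - Cfsg.centralChar (one : G → ℂ) (Quotient.out C)) := by
    intro C
    rw [hTrep (ι C) (Quotient.out C)⁻¹ (hι C).symm, conj_closed_coeff_inv B hconj, cc_irrConj,
      cc_inv_real one hone_real]
  have hsame : Cfsg.SameBlock M (χ : G → ℂ) (irrConj χ : G → ℂ) := by
    have h3 : χ ∈ Cfsg.blockOf M (χ₀ : G → ℂ) := by
      rw [← hB0]
      exact hχB
    have h4 : irrConj χ ∈ Cfsg.blockOf M (χ₀ : G → ℂ) := by
      rw [← hB0]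
      exact hconj χ hχB
    exact sb_trans hMp (sb_symm hMp h3) h4
  have hpair : ∀ C, Cfsg.MemLocalIdeal M (T C + T (ι C)) := by
    intro C
    have h3 : T C + T (ι C) = T C * ((2 : ℕ) : ℂ) - Cfsg.blockCoeff B (Quotient.out C)
        * (Cfsg.centralChar (χ : G → ℂ) (Quotient.out C)
          - Cfsg.centralChar (irrConj χ : G → ℂ) (Quotient.out C)) := by
      rw [hTι, hT]
      push_cast
      ring
    rw [h3]
    exact li_sub hMp (li_mul hMp (hTlr C) (li_natCast_p 2 M hM))
      (li_mul hMp (osima_closed 2 M hM B hcl (Quotient.out C)) (hsame (Quotient.out C)))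
  have hfix : ∀ C, ι C = C → Cfsg.MemLocalIdeal M (T C) := by
    intro C hC
    obtain ⟨g, hg⟩ : ∃ g : G, g = Quotient.out C := ⟨_, rfl⟩
    have hreal : IsConj g g⁻¹ := by
      rw [← ConjClasses.mk_eq_mk_iff_isConj, hg, ← hι C, hC]
      exact Quotient.out_eq C
    rw [hT, ← hg]
    by_cases h2o : 2 ∣ orderOf g
    · rw [blockCoeff_psingular 2 M hM B hcl g h2o, zero_mul]
      exact li_zero M hM1
    · by_cases hg1 : g = 1
      · have h3 : Cfsg.centralChar (χ : G → ℂ) g - Cfsg.centralChar (one : G → ℂ) g = 0 := by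
          unfold Cfsg.centralChar
          simp only [hone, hg1]
          rw [mul_div_assoc, div_self hχne, mul_one, div_one, sub_self]
        rw [h3, mul_zero]
        exact li_zero M hM1
      · have heven := real_class_even g h2o hg1 hreal
        rw [card_classFinset] at heven
        obtain ⟨k, hk⟩ := heven
        apply li_mul hMp (osima_closed 2 M hM B hcl g)
        have h4 : Cfsg.centralChar (χ : G → ℂ) g - Cfsg.centralChar (one : G → ℂ) g
            = ((χ : G → ℂ) g / (χ : G → ℂ) 1 - 1) * (k : ℂ) * ((2 : ℕ) : ℂ) := by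
          unfold Cfsg.centralChar
          simp only [hone, hk, mul_one, div_one]
          push_cast
          ring
        rw [h4]
        have hb : (χ : G → ℂ) g / (χ : G → ℂ) 1 ∈ lrSub M hMp := by
          rw [hχ1]
          exact (mem_lrSub hMp _).2 (lr_div_nat 2 M hM (bcf_irr_isIntegral χ.2 g) _ hodd)
        have hc : ((χ : G → ℂ) g / (χ : G → ℂ) 1 - 1) * (k : ℂ) ∈ lrSub M hMp :=
          (lrSub M hMp).mul_mem ((lrSub M hMp).sub_mem hb (lrSub M hMp).one_mem)
            (natCast_mem _ k)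
        exact li_mul hMp ((mem_lrSub hMp _).1 hc) (li_natCast_p 2 M hM)
  obtain ⟨T', hT'⟩ : ∃ T' : ConjClasses G → lrSub M hMp,
      ∀ C, ((T' C : lrSub M hMp) : ℂ) = T C :=
    ⟨fun C => ⟨T C, (mem_lrSub hMp _).2 (hTlr C)⟩, fun _ => rfl⟩
  have hzero : ∑ C : ConjClasses G, Ideal.Quotient.mk (liIdeal M hMp) (T' C) = 0 := by
    apply Finset.sum_ninvolution ι
    · intro C
      rw [← map_add, Ideal.Quotient.eq_zero_iff_mem]
      show Cfsg.MemLocalIdeal M (((T' C + T' (ι C) : lrSub M hMp)) : ℂ)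
      have h4 : (((T' C + T' (ι C) : lrSub M hMp)) : ℂ) = T C + T (ι C) := by
        push_cast
        rw [hT', hT']
      rw [h4]
      exact hpair C
    · intro C hne hC
      apply hne
      rw [Ideal.Quotient.eq_zero_iff_mem]
      show Cfsg.MemLocalIdeal M ((T' C : lrSub M hMp) : ℂ)
      rw [hT']
      exact hfix C hC
    · intro C
      exact Finset.mem_univ _
    · intro C
      exact hιι C
  rw [← map_sum, Ideal.Quotient.eq_zero_iff_mem] at hzero
  have h5 : Cfsg.MemLocalIdeal M ((lrSub M hMp).subtype (∑ C : ConjClasses G, T' C)) := hzero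
  rw [map_sum] at h5
  have h6 : ∑ C : ConjClasses G, (lrSub M hMp).subtype (T' C) = 1 := by
    rw [← hsum]
    apply Finset.sum_congr rfl
    intro C _
    exact hT' C
  rw [h6] at h5
  exact li_one M h5

/-- A nonprincipal `2`-block of full defect differs from its complex conjugate. -/
theorem real_full_main {G : Type*} [Group G] [Finite G] (M : Ideal Cfsg.AlgInt)
    (hM : Cfsg.IsPModular 2 M) (B : Set (Cfsg.IrrCharacter G)) (hB : Cfsg.IsPBlock M B)
    (P : Sylow 2 G) (hfull : Cfsg.IsDefectGroup 2 M B (P : Subgroup G))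
    (hnp : B ≠ Cfsg.principalBlock M G) :
    {ψ : Cfsg.IrrCharacter G | ∃ χ ∈ B, (ψ : G → ℂ)
      = fun g => (starRingEnd ℂ) ((χ : G → ℂ) g)} ≠ B := by
  letI := Fintype.ofFinite G
  intro heq
  apply hnp
  apply real_full_principal M hM B hB P hfull
  intro ψ hψ
  rw [← heq]
  exact ⟨ψ, hψ, rfl⟩

end BlockReal2

end Cfsg.Agent.Lib.Helper6
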