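import Mathlib

set_option autoImplicit false

namespace Cfsg.Agent.Lib.Helper6

/-- An irreducible module for a cyclic group of prime order `p` over the prime field of
characteristic `q ≠ p`, with nontrivial action, has order `q ^ ord_p(q)`.  Stated for an
additive group `V` of exponent `q` with an endomorphism `φ` of order `p`. -/
theorem irr_card {V : Type*} [AddCommGroup V] [Finite V] {p q : ℕ} [Fact p.Prime] (hq : q.Prime)
    (hV : ∀ v : V, q • v = 0) (φ : AddMonoid.End V) (hφp : φ ^ p = 1) (hφ1 : φ ≠ 1)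
    (hirr : ∀ W : AddSubgroup V, (∀ w ∈ W, φ w ∈ W) → W = ⊥ ∨ W = ⊤) :
    Nat.card V = q ^ orderOf (q : ZMod p) := by
  classical
  have hpp : p.Prime := Fact.out
  haveI : Fact q.Prime := ⟨hq⟩
  set R : Subring (AddMonoid.End V) := Subring.closure {φ} with hR
  letI instC : CommRing R := Subring.closureCommRingOfComm (by
    intro x hx y hy
    rw [Set.mem_singleton_iff] at hx hy
    rw [hx, hy])
  have hφR : φ ∈ R := Subring.subset_closure (Set.mem_singleton φ)
  have hcomm : ∀ r ∈ R, ∀ s ∈ R, r * s = s * r := by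
    intro r hr s hs
    have := mul_comm (⟨r, hr⟩ : R) ⟨s, hs⟩
    exact congrArg Subtype.val this
  -- evaluation at a nonzero vector is surjective
  have hsurj : ∀ a : V, a ≠ 0 → ∀ v : V, ∃ r ∈ R, r a = v := by
    intro a ha v
    let W : AddSubgroup V :=
      { carrier := {w | ∃ r ∈ R, r a = w}
        add_mem' := by
          rintro x y ⟨r, hr, rfl⟩ ⟨s, hs, rfl⟩
          exact ⟨r + s, R.add_mem hr hs, rfl⟩
        zero_mem' := ⟨0, R.zero_mem, rfl⟩
        neg_mem' := by
          rintro x ⟨r, hr, rfl⟩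
          exact ⟨-r, R.neg_mem hr, rfl⟩ }
    have hW : ∀ w ∈ W, φ w ∈ W := by
      rintro w ⟨r, hr, rfl⟩
      exact ⟨φ * r, R.mul_mem hφR hr, rfl⟩
    have haW : a ∈ W := ⟨1, R.one_mem, rfl⟩
    rcases hirr W hW with h | h
    · rw [h, AddSubgroup.mem_bot] at haW
      exact absurd haW ha
    · have : v ∈ W := h ▸ AddSubgroup.mem_top v
      exact this
  have hinj : ∀ a : V, a ≠ 0 → ∀ t ∈ R, t a = 0 → t = 0 := by
    intro a ha t ht hta
    ext v
    obtain ⟨s, hs, rfl⟩ := hsurj a ha v
    have h1 : t (s a) = (t * s) a := rfl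
    rw [h1, hcomm t ht s hs]
    show s (t a) = 0
    rw [hta, map_zero]
  -- a vector moved by φ
  obtain ⟨a, ha⟩ : ∃ a : V, φ a ≠ a := by
    by_contra hcon
    push_neg at hcon
    apply hφ1
    ext v
    exact hcon v
  have ha0 : a ≠ 0 := by
    rintro rfl
    exact ha (map_zero φ)
  -- R is a domain
  haveI : Nontrivial R := by
    refine ⟨⟨0, 1, ?_⟩⟩
    intro h
    have h1 : (0 : AddMonoid.End V) = 1 := congrArg Subtype.val h
    have h2 : (0 : AddMonoid.End V) a = (1 : AddMonoid.End V) a := by rw [h1]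
    exact ha0 h2.symm
  haveI : NoZeroDivisors R := by
    refine ⟨?_⟩
    intro r s hrs
    by_cases hs : s = 0
    · exact Or.inr hs
    · left
      have hs' : (s : AddMonoid.End V) ≠ 0 := fun h => hs (Subtype.ext h)
      obtain ⟨b, hb⟩ : ∃ b : V, (s : AddMonoid.End V) b ≠ 0 := by
        by_contra hcon
        push_neg at hcon
        apply hs'
        ext v
        exact hcon v
      apply Subtype.ext
      apply hinj _ hb _ r.2
      have h1 : ((r * s : R) : AddMonoid.End V) b = 0 := by rw [hrs]; rfl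
      exact h1
  haveI : IsDomain R := NoZeroDivisors.to_isDomain R
  -- the evaluation bijection
  have hbij : Function.Bijective (fun r : R => (r : AddMonoid.End V) a) := by
    constructor
    · intro r s hrs
      have h1 : ((r - s : R) : AddMonoid.End V) a = 0 := by
        show (r : AddMonoid.End V) a - (s : AddMonoid.End V) a = 0
        rw [sub_eq_zero]; exact hrs
      have h2 := hinj a ha0 _ (r - s).2 h1
      have h3 : r - s = 0 := Subtype.ext h2
      exact sub_eq_zero.mp h3
    · intro v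
      obtain ⟨r, hr, rfl⟩ := hsurj a ha0 v
      exact ⟨⟨r, hr⟩, rfl⟩
  haveI : Finite R := Finite.of_injective _ hbij.1
  haveI : Fintype R := Fintype.ofFinite R
  have hcard : Nat.card R = Nat.card V := Nat.card_eq_of_bijective _ hbij
  letI : Field R := Fintype.fieldOfDomain R
  haveI : CharP R q := by
    apply (CharP.charP_iff_prime_eq_zero hq).mpr
    apply Subtype.ext
    show ((q : R) : AddMonoid.End V) = 0
    ext v
    show ((q : AddMonoid.End V)) v = 0
    rw [AddMonoid.End.natCast_apply]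
    exact hV v
  obtain ⟨d, -, hd⟩ := FiniteField.card R q
  have hd0 : 0 < (d : ℕ) := d.pos
  -- φ as an element of R has order p
  have hφR1 : (⟨φ, hφR⟩ : R) ^ p = 1 := Subtype.ext hφp
  have hφRne : (⟨φ, hφR⟩ : R) ≠ 0 := by
    intro h
    have h0 : (⟨φ, hφR⟩ : R) ^ p = 0 := by rw [h, zero_pow hpp.ne_zero]
    rw [hφR1] at h0
    exact one_ne_zero h0
  have hord : orderOf (⟨φ, hφR⟩ : R) = p := by
    apply orderOf_eq_prime hφR1
    intro h
    exact hφ1 (congrArg Subtype.val h)
  have hdvd : p ∣ q ^ (d : ℕ) - 1 := by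
    rw [← hord, ← hd]
    exact orderOf_dvd_of_pow_eq_one (FiniteField.pow_card_sub_one_eq_one _ hφRne)
  have hqd : (q : ZMod p) ^ (d : ℕ) = 1 := by
    have h1 : ((q ^ (d : ℕ) - 1 : ℕ) : ZMod p) = 0 := (ZMod.natCast_eq_zero_iff _ _).mpr hdvd
    rw [Nat.cast_sub (Nat.one_le_pow _ _ hq.pos)] at h1
    push_cast at h1
    exact sub_eq_zero.mp h1
  set e := orderOf (q : ZMod p) with he
  have hed : e ∣ (d : ℕ) := orderOf_dvd_of_pow_eq_one hqd
  have hele : e ≤ (d : ℕ) := Nat.le_of_dvd hd0 hed
  have he0 : e ≠ 0 := by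
    rintro h0
    rw [h0] at hed
    have := Nat.eq_zero_of_zero_dvd hed
    omega
  -- q ^ e ≡ 1 mod p
  have hqe : p ∣ q ^ e - 1 := by
    apply (ZMod.natCast_eq_zero_iff _ _).mp
    rw [Nat.cast_sub (Nat.one_le_pow _ _ hq.pos)]
    push_cast
    rw [he, pow_orderOf_eq_one, sub_self]
  obtain ⟨k, hk⟩ := hqe
  have hqe' : q ^ e = p * k + 1 := by
    have := Nat.one_le_pow e q hq.pos
    omega
  have hφfix : (⟨φ, hφR⟩ : R) ^ (q ^ e) = ⟨φ, hφR⟩ := by
    rw [hqe', pow_succ, pow_mul, hφR1, one_pow, one_mul]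
  -- Frobenius fixes R
  have hfrob : ∀ (x : AddMonoid.End V) (hx : x ∈ R), (⟨x, hx⟩ : R) ^ (q ^ e) = ⟨x, hx⟩ := by
    intro x hx
    induction hx using Subring.closure_induction with
    | mem x hx =>
      rw [Set.mem_singleton_iff] at hx
      subst hx
      exact hφfix
    | zero => exact zero_pow (pow_ne_zero _ hq.ne_zero)
    | one => exact one_pow _
    | add x y hx hy ihx ihy =>
      have : (⟨x + y, R.add_mem hx hy⟩ : R) = ⟨x, hx⟩ + ⟨y, hy⟩ := rfl
      rw [this, add_pow_char_pow, ihx, ihy]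
    | neg x hx ihx =>
      have : (⟨-x, R.neg_mem hx⟩ : R) = 0 - ⟨x, hx⟩ := by rw [zero_sub]; rfl
      rw [this, sub_pow_char_pow, ihx, zero_pow (pow_ne_zero _ hq.ne_zero)]
    | mul x y hx hy ihx ihy =>
      have : (⟨x * y, R.mul_mem hx hy⟩ : R) = ⟨x, hx⟩ * ⟨y, hy⟩ := rfl
      rw [this, mul_pow, ihx, ihy]
  -- counting roots
  have hle : Fintype.card R ≤ q ^ e := by
    have hP : (Polynomial.X ^ q ^ e - Polynomial.X : Polynomial R) ≠ 0 :=
      FiniteField.X_pow_card_pow_sub_X_ne_zero R he0 hq.one_lt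
    have hdeg : (Polynomial.X ^ q ^ e - Polynomial.X : Polynomial R).natDegree = q ^ e :=
      FiniteField.X_pow_card_pow_sub_X_natDegree_eq R he0 hq.one_lt
    have hsub : (Finset.univ : Finset R) ⊆
        (Polynomial.X ^ q ^ e - Polynomial.X : Polynomial R).roots.toFinset := by
      intro r _
      rw [Multiset.mem_toFinset, Polynomial.mem_roots hP, Polynomial.IsRoot.def]
      simp only [Polynomial.eval_sub, Polynomial.eval_pow, Polynomial.eval_X]
      rw [sub_eq_zero]
      exact hfrob r.1 r.2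
    calc Fintype.card R = (Finset.univ : Finset R).card := rfl
      _ ≤ (Polynomial.X ^ q ^ e - Polynomial.X : Polynomial R).roots.toFinset.card :=
          Finset.card_le_card hsub
      _ ≤ Multiset.card (Polynomial.X ^ q ^ e - Polynomial.X : Polynomial R).roots :=
          Multiset.toFinset_card_le _
      _ ≤ (Polynomial.X ^ q ^ e - Polynomial.X : Polynomial R).natDegree :=
          Polynomial.card_roots' _
      _ = q ^ e := hdeg
  rw [hd] at hle
  have hde : (d : ℕ) ≤ e := (Nat.pow_le_pow_iff_right hq.one_lt).mp hle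
  have : (d : ℕ) = e := le_antisymm hde hele
  rw [← hcard, Nat.card_eq_fintype_card, hd, this]

end Cfsg.Agent.Lib.Helper6
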