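import Mathlib
import Cfsg.Prelude
import Cfsg.Agent.Lib.Helper6.IrrCyc

set_option autoImplicit false

namespace Cfsg.Agent.Lib.Helper6

/-- In a finite group, a subgroup stable under conjugation by a generating set is normal. -/
theorem mpc_normal_of_gens {G : Type*} [Group G] [Finite G] (B : Subgroup G) (S : Set G)
    (hS : Subgroup.closure S = ⊤) (h : ∀ g ∈ S, ∀ b ∈ B, g * b * g⁻¹ ∈ B) : B.Normal := by
  have hpow : ∀ g : G, (∀ b ∈ B, g * b * g⁻¹ ∈ B) → ∀ n : ℕ, ∀ b ∈ B, g ^ n * b * (g ^ n)⁻¹ ∈ B := by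
    intro g hg n
    induction n with
    | zero => intro b hb; simpa using hb
    | succ n ih =>
      intro b hb
      have e : g ^ (n + 1) * b * (g ^ (n + 1))⁻¹ = g * (g ^ n * b * (g ^ n)⁻¹) * g⁻¹ := by
        rw [pow_succ']; group
      rw [e]
      exact hg _ (ih b hb)
  let T : Subgroup G :=
    { carrier := {g | ∀ b ∈ B, g * b * g⁻¹ ∈ B}
      mul_mem' := by
        intro g g' hg hg' b hb
        have e : g * g' * b * (g * g')⁻¹ = g * (g' * b * g'⁻¹) * g⁻¹ := by group
        rw [e]
        exact hg _ (hg' b hb)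
      one_mem' := by intro b hb; simpa using hb
      inv_mem' := by
        intro g hg b hb
        have e : g⁻¹ = g ^ (orderOf g - 1) := by
          apply inv_eq_of_mul_eq_one_left
          rw [← pow_succ, Nat.sub_add_cancel (orderOf_pos g), pow_orderOf_eq_one]
        rw [e]
        exact hpow g hg _ b hb }
  have hT : T = ⊤ := by
    apply top_le_iff.mp
    rw [← hS]
    exact (Subgroup.closure_le T).mpr (fun g hg => h g hg)
  refine ⟨fun b hb g => ?_⟩
  have : g ∈ T := hT ▸ Subgroup.mem_top g
  exact this b hb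

/-- If `A` has prime index and `y ∉ A` then `A` and `y` generate. -/
theorem mpc_sup_top {G : Type*} [Group G] [Finite G] {p : ℕ} (hp : p.Prime) (A : Subgroup G)
    (hidx : A.index = p) (y : G) (hy : y ∉ A) : Subgroup.closure ((A : Set G) ∪ {y}) = ⊤ := by
  rw [← Subgroup.index_eq_one]
  have hle : A ≤ Subgroup.closure ((A : Set G) ∪ {y}) := fun a ha =>
    Subgroup.subset_closure (Or.inl ha)
  have h1 : (Subgroup.closure ((A : Set G) ∪ {y})).index ∣ p := by
    rw [← hidx]; exact Subgroup.index_dvd_of_le hle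
  rcases (Nat.dvd_prime hp).mp h1 with h | h
  · exact h
  · exfalso
    have hc1 := (Subgroup.closure ((A : Set G) ∪ {y})).card_mul_index
    have hc2 := A.card_mul_index
    rw [h] at hc1
    rw [hidx, ← hc1] at hc2
    have hc3 : Nat.card A = Nat.card (Subgroup.closure ((A : Set G) ∪ {y})) :=
      Nat.eq_of_mul_eq_mul_right hp.pos hc2
    have : A = Subgroup.closure ((A : Set G) ∪ {y}) :=
      Subgroup.eq_of_le_of_card_ge hle (by rw [hc3])
    apply hy
    rw [this]
    exact Subgroup.subset_closure (Or.inr rfl)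

/-- If `A` is abelian of prime index and some `y ∉ A` centralises `A`, the group is abelian. -/
theorem mpc_comm_of_central {G : Type*} [Group G] [Finite G] {p : ℕ} (hp : p.Prime) (A : Subgroup G)
    (hAc : ∀ a ∈ A, ∀ b ∈ A, a * b = b * a)
    (hidx : A.index = p) (y : G) (hy : y ∉ A) (hc : ∀ a ∈ A, y * a = a * y) :
    IsMulCommutative G := by
  have htop := mpc_sup_top hp A hidx y hy
  have hcen : Subgroup.closure ((A : Set G) ∪ {y}) ≤ Subgroup.centralizer ((A : Set G) ∪ {y}) := by
    rw [Subgroup.closure_le]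
    rintro g (hg | hg)
    · rw [SetLike.mem_coe, Subgroup.mem_centralizer_iff]
      rintro h (hh | hh)
      · exact hAc h hh g hg
      · rw [Set.mem_singleton_iff] at hh; subst hh; exact hc g hg
    · rw [Set.mem_singleton_iff] at hg; subst hg
      rw [SetLike.mem_coe, Subgroup.mem_centralizer_iff]
      rintro h (hh | hh)
      · exact (hc h hh).symm
      · rw [Set.mem_singleton_iff] at hh; subst hh; rfl
  rw [htop] at hcen
  have hcen2 : Subgroup.centralizer ((A : Set G) ∪ {y}) ≤ Subgroup.center G := by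
    intro g hg
    rw [Subgroup.mem_center_iff]
    intro h
    have hh : h ∈ Subgroup.centralizer (Subgroup.closure ((A : Set G) ∪ {y}) : Set G) := by
      rw [Subgroup.centralizer_closure]
      rw [Subgroup.mem_centralizer_iff]
      intro k hk
      have := Subgroup.mem_centralizer_iff.mp (hcen (Subgroup.mem_top h)) k hk
      exact this
    rw [htop] at hh
    exact (Subgroup.mem_centralizer_iff.mp hh g (Subgroup.mem_top g)).symm
  refine IsMulCommutative.of_comm (fun a b => ?_)
  have ha : a ∈ Subgroup.center G := hcen2 (hcen (Subgroup.mem_top a))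
  exact (Subgroup.mem_center_iff.mp ha b).symm

/-- A non-abelian group with an elementary abelian minimal normal `q`-subgroup `A` of prime
index `p ≠ q` has `|A| = q ^ ord_p(q)`. -/
theorem mpc_card {G : Type*} [Group G] [Finite G] {p q : ℕ} [Fact p.Prime] (hq : q.Prime)
    (hpq : q ≠ p) (hna : ¬ IsMulCommutative G) (A : Subgroup G) [hAn : A.Normal]
    (hA : Cfsg.IsElementaryAbelian q A) (hidx : A.index = p)
    (hmin : ∀ B : Subgroup G, B.Normal → B ≤ A → B = ⊥ ∨ B = A) :
    Nat.card ↥A = q ^ orderOf (q : ZMod p) := by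
  classical
  have hpp : p.Prime := Fact.out
  obtain ⟨hAcomm, hAq⟩ := hA
  have hAc : ∀ a ∈ A, ∀ b ∈ A, a * b = b * a := by
    intro a ha b hb
    have := mul_comm' (⟨a, ha⟩ : A) ⟨b, hb⟩
    exact congrArg Subtype.val this
  have key : ∀ y : G, y ∉ A → ¬ (∀ a ∈ A, y * a = a * y) := fun y hy hc =>
    hna (mpc_comm_of_central hpp A hAc hidx y hy hc)
  have hpdvd : p ∣ Nat.card G := by rw [← hidx]; exact A.index_dvd_card
  obtain ⟨x, hx⟩ := exists_prime_orderOf_dvd_card' p hpdvd
  have hxA : x ∉ A := by
    intro hxA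
    have h1 : orderOf x ∣ q := orderOf_dvd_of_pow_eq_one (hAq x hxA)
    rw [hx] at h1
    exact hpq ((Nat.prime_dvd_prime_iff_eq hpp hq).mp h1).symm
  letI : CommGroup A := { (inferInstance : Group A) with mul_comm := fun a b => mul_comm' a b }
  let Ψ : G →* AddMonoid.End (Additive A) :=
    { toFun := fun g => MonoidHom.toAdditive (MulAut.conjNormal g : MulAut A).toMonoidHom
      map_one' := by
        ext v
        rw [map_one]
        rfl
      map_mul' := by
        intro g h
        ext v
        rw [map_mul]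
        rfl }
  have hV : ∀ v : Additive A, q • v = 0 := by
    intro v
    have h1 : (Additive.toMul v) ^ q = 1 := Subtype.ext (by simpa using hAq _ (Additive.toMul v).2)
    have h2 : q • v = Additive.ofMul ((Additive.toMul v) ^ q) := rfl
    rw [h2, h1]; rfl
  have hφp : Ψ x ^ p = 1 := by rw [← map_pow, ← hx, pow_orderOf_eq_one, map_one]
  have hφ1 : Ψ x ≠ 1 := by
    intro h
    apply key x hxA
    intro a ha
    have h2 : (MulAut.conjNormal x : MulAut A) ⟨a, ha⟩ = ⟨a, ha⟩ :=
      congrArg (fun f : AddMonoid.End (Additive A) => Additive.toMul (f (Additive.ofMul (⟨a, ha⟩ : A)))) h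
    have h3 := congrArg Subtype.val h2
    rw [MulAut.conjNormal_apply] at h3
    calc x * a = x * a * x⁻¹ * x := by group
      _ = a * x := by rw [h3]
  have hirr : ∀ W : AddSubgroup (Additive A), (∀ w ∈ W, Ψ x w ∈ W) → W = ⊥ ∨ W = ⊤ := by
    intro W hW
    let B : Subgroup G :=
      { carrier := {g | ∃ h : g ∈ A, Additive.ofMul (⟨g, h⟩ : A) ∈ W}
        mul_mem' := by
          rintro g g' ⟨h, hw⟩ ⟨h', hw'⟩
          exact ⟨A.mul_mem h h', W.add_mem hw hw'⟩
        one_mem' := ⟨A.one_mem, W.zero_mem⟩
        inv_mem' := by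
          rintro g ⟨h, hw⟩
          exact ⟨A.inv_mem h, W.neg_mem hw⟩ }
    have hBA : B ≤ A := fun g hg => hg.1
    have hBn : B.Normal := mpc_normal_of_gens B ((A : Set G) ∪ {x}) (mpc_sup_top hpp A hidx x hxA) (by
      rintro g (hg | hg) b ⟨hb, hw⟩
      · have : g * b * g⁻¹ = b := by rw [hAc g hg b hb]; group
        rw [this]; exact ⟨hb, hw⟩
      · rw [Set.mem_singleton_iff] at hg; subst hg
        exact ⟨hAn.conj_mem b hb g, hW _ hw⟩)
    rcases hmin B hBn hBA with h | h
    · left
      ext w
      constructor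
      · intro hw
        have h1 : ((Additive.toMul w : A) : G) ∈ B := ⟨(Additive.toMul w).2, hw⟩
        rw [h, Subgroup.mem_bot] at h1
        have h2 : Additive.toMul w = 1 := Subtype.ext h1
        rw [AddSubgroup.mem_bot]
        exact h2
      · intro hw
        rw [AddSubgroup.mem_bot] at hw
        rw [hw]; exact W.zero_mem
    · right
      ext w
      constructor
      · intro _; exact AddSubgroup.mem_top w
      · intro _
        have h1 : ((Additive.toMul w : A) : G) ∈ B := by rw [h]; exact (Additive.toMul w).2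
        obtain ⟨_, hw⟩ := h1
        exact hw
  exact irr_card (V := Additive A) hq hV (Ψ x) hφp hφ1 hirr

theorem mpc_pclosed_of_not_dvd {X : Type*} [Group X] [Finite X] {p : ℕ} [Fact p.Prime]
    (h : ¬ p ∣ Nat.card X) : Cfsg.IsPClosed p X := by
  intro P
  have h1 : Nat.card (P : Subgroup X) = 1 :=
    (P.2.card_eq_or_dvd).resolve_right (fun hd => h (hd.trans (Subgroup.card_subgroup_dvd_card _)))
  rw [Subgroup.eq_bot_of_card_eq _ h1]
  infer_instance

theorem mpc_pclosed_of_card_dvd {X : Type*} [Group X] [Finite X] {p : ℕ} [Fact p.Prime]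
    (h : Nat.card X ∣ p) : Cfsg.IsPClosed p X := by
  have hpp : p.Prime := Fact.out
  rcases (Nat.dvd_prime hpp).mp h with h1 | h1
  · apply mpc_pclosed_of_not_dvd
    rw [h1]
    exact hpp.not_dvd_one
  · intro P
    haveI : Fact (Nat.card X).Prime := ⟨h1 ▸ hpp⟩
    rcases Subgroup.eq_bot_or_eq_top_of_prime_card (P : Subgroup X) with h2 | h2
    · rw [h2]; infer_instance
    · rw [h2]; infer_instance

end Cfsg.Agent.Lib.Helper6
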