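import Mathlib
import Cfsg.Prelude
import Cfsg.Agent.Lib.Helper6.MinPC

set_option autoImplicit false

namespace Cfsg.Agent.Lib.Helper6

/-- A `p`-element in a subgroup of order prime to `p` is trivial. -/
theorem mpc_pelt {G : Type*} [Group G] [Finite G] {p : ℕ} [Fact p.Prime] (N : Subgroup G)
    (hN : ¬ p ∣ Nat.card N) (n : G) (hn : n ∈ N) (k : ℕ) (h : n ^ p ^ k = 1) : n = 1 := by
  have hpp : p.Prime := Fact.out
  have h1 : orderOf n ∣ p ^ k := orderOf_dvd_of_pow_eq_one h
  obtain ⟨j, -, hj⟩ := (Nat.dvd_prime_pow hpp).mp h1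
  have h2 : orderOf n ∣ Nat.card N := by
    have := orderOf_dvd_natCard (⟨n, hn⟩ : N)
    rw [← Subgroup.orderOf_coe] at this
    exact this
  rcases Nat.eq_zero_or_pos j with h0 | h0
  · rw [h0, pow_zero] at hj
    exact orderOf_eq_one_iff.mp hj
  · exfalso
    apply hN
    refine dvd_trans ?_ h2
    rw [hj]
    exact dvd_pow_self p (by omega)

/-- If a normal `p`-subgroup `K` has `p`-closed quotient then `G` is `p`-closed. -/
theorem mpc_Q1 {G : Type*} [Group G] [Finite G] {p : ℕ} [Fact p.Prime] (K : Subgroup G)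
    [K.Normal] (hK : IsPGroup p K) (hq : Cfsg.IsPClosed p (G ⧸ K)) : Cfsg.IsPClosed p G := by
  obtain ⟨Pb⟩ : Nonempty (Sylow p (G ⧸ K)) := inferInstance
  have hPbn : (Pb : Subgroup (G ⧸ K)).Normal := hq Pb
  haveI := Sylow.unique_of_normal Pb hPbn
  have hMn : ((Pb : Subgroup (G ⧸ K)).comap (QuotientGroup.mk' K)).Normal :=
    hPbn.comap _
  have hMp : IsPGroup p ((Pb : Subgroup (G ⧸ K)).comap (QuotientGroup.mk' K)) := by
    rintro ⟨g, hg⟩
    obtain ⟨k, hk⟩ := Pb.2 ⟨QuotientGroup.mk' K g, hg⟩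
    have hk' : (QuotientGroup.mk' K g) ^ p ^ k = 1 := by
      have := congrArg Subtype.val hk
      simpa using this
    have hgK : g ^ p ^ k ∈ K := by
      rw [← QuotientGroup.eq_one_iff, ← hk']
      rfl
    obtain ⟨j, hj⟩ := hK ⟨g ^ p ^ k, hgK⟩
    have hj' : (g ^ p ^ k) ^ p ^ j = 1 := by
      have := congrArg Subtype.val hj
      simpa using this
    refine ⟨k + j, ?_⟩
    apply Subtype.ext
    show g ^ p ^ (k + j) = 1
    rw [pow_add, pow_mul]
    exact hj'
  intro P
  have hPM : (P : Subgroup G) ≤ (Pb : Subgroup (G ⧸ K)).comap (QuotientGroup.mk' K) := by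
    obtain ⟨Q, hQ⟩ := (P.2.map (QuotientGroup.mk' K)).exists_le_sylow
    rw [Subsingleton.elim Q Pb] at hQ
    intro g hg
    exact hQ (Subgroup.mem_map_of_mem _ hg)
  have := P.is_maximal' hMp hPM
  rw [← this]
  exact hMn

/-- A Sylow `p`-subgroup contained in a `p`-closed normal subgroup is normal. -/
theorem mpc_Q2 {G : Type*} [Group G] [Finite G] {p : ℕ} [Fact p.Prime] (M : Subgroup G)
    [M.Normal] (hM : Cfsg.IsPClosed p ↥M) (P : Sylow p G) (hPM : (P : Subgroup G) ≤ M) :
    (P : Subgroup G).Normal := by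
  have hS : ((P.subtype hPM : Sylow p M) : Subgroup M).Normal := hM (P.subtype hPM)
  haveI : ((P.subtype hPM : Sylow p M) : Subgroup M).Characteristic :=
    Sylow.characteristic_of_normal _ hS
  have h1 : (((P.subtype hPM : Sylow p M) : Subgroup M).map M.subtype).Normal :=
    ConjAct.normal_of_characteristic_of_normal
  rw [Sylow.coe_subtype, Subgroup.map_subgroupOf_eq_of_le hPM] at h1
  exact h1

/-- If `N` is a normal `p'`-subgroup, `R` a `p`-subgroup and `R ⊔ N` is `p`-closed, then `R`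
centralises `N`. -/
theorem mpc_Q3 {G : Type*} [Group G] [Finite G] {p : ℕ} [Fact p.Prime] (N : Subgroup G)
    [hNn : N.Normal] (hN : ¬ p ∣ Nat.card N) (R : Subgroup G) (hR : IsPGroup p R)
    (hT : Cfsg.IsPClosed p ↥(R ⊔ N)) : ∀ r ∈ R, ∀ n ∈ N, r * n = n * r := by
  have hRT : R ≤ R ⊔ N := le_sup_left
  have hNT : N ≤ R ⊔ N := le_sup_right
  have hR' : IsPGroup p (R.subgroupOf (R ⊔ N)) := by
    rintro ⟨g, hg⟩
    obtain ⟨k, hk⟩ := hR ⟨(g : G), Subgroup.mem_subgroupOf.mp hg⟩
    refine ⟨k, ?_⟩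
    apply Subtype.ext
    apply Subtype.ext
    have := congrArg Subtype.val hk
    simpa using this
  obtain ⟨S, hS⟩ := hR'.exists_le_sylow
  have hSn : (S : Subgroup ↥(R ⊔ N)).Normal := hT S
  have hSR : ∀ s : ↥(R ⊔ N), s ∈ S → (s : G) ∈ R := by
    intro s hs
    have h1 : (s : G) ∈ ((R ⊔ N : Subgroup G) : Set G) := s.2
    rw [Subgroup.mul_normal] at h1
    obtain ⟨r, hr, n, hn, hrn⟩ := Set.mem_mul.mp h1
    have hrS : (⟨r, hRT hr⟩ : ↥(R ⊔ N)) ∈ S := hS (Subgroup.mem_subgroupOf.mpr hr)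
    have hnS : (⟨n, hNT hn⟩ : ↥(R ⊔ N)) ∈ S := by
      have e : (⟨n, hNT hn⟩ : ↥(R ⊔ N)) = (⟨r, hRT hr⟩ : ↥(R ⊔ N))⁻¹ * s := by
        apply Subtype.ext
        show n = r⁻¹ * (s : G)
        rw [← hrn]; group
      rw [e]
      exact (S : Subgroup ↥(R ⊔ N)).mul_mem ((S : Subgroup ↥(R ⊔ N)).inv_mem hrS) hs
    obtain ⟨k, hk⟩ := S.2 ⟨_, hnS⟩
    have hk' : n ^ p ^ k = 1 := by
      have := congrArg (fun t : (S : Subgroup ↥(R ⊔ N)) => ((t : ↥(R ⊔ N)) : G)) hk
      simpa using this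
    have hn1 : n = 1 := mpc_pelt N hN n hn k hk'
    rw [← hrn, hn1, mul_one]
    exact hr
  intro r hr n hn
  have hconj : n * r * n⁻¹ ∈ R := by
    have h1 : (⟨n, hNT hn⟩ : ↥(R ⊔ N)) * ⟨r, hRT hr⟩ * (⟨n, hNT hn⟩ : ↥(R ⊔ N))⁻¹ ∈ S :=
      hSn.conj_mem _ (hS (Subgroup.mem_subgroupOf.mpr hr)) _
    exact hSR _ h1
  have hc : n * r * n⁻¹ * r⁻¹ = 1 := by
    have hcR : n * r * n⁻¹ * r⁻¹ ∈ R := R.mul_mem hconj (R.inv_mem hr)
    have hcN : n * r * n⁻¹ * r⁻¹ ∈ N := by
      have : n * r * n⁻¹ * r⁻¹ = n * (r * n⁻¹ * r⁻¹) := by group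
      rw [this]
      exact N.mul_mem hn (hNn.conj_mem _ (N.inv_mem hn) r)
    obtain ⟨k, hk⟩ := hR ⟨_, hcR⟩
    have hk' : (n * r * n⁻¹ * r⁻¹) ^ p ^ k = 1 := by
      have := congrArg Subtype.val hk
      simpa using this
    exact mpc_pelt N hN _ hcN k hk'
  calc r * n = (n * r * n⁻¹ * r⁻¹)⁻¹ * (n * r) := by group
    _ = n * r := by rw [hc]; group

open scoped Pointwise in
/-- Structure of the non-simple minimal non-`p`-closed groups. -/
theorem mpc_struct {G : Type*} [Group G] [Finite G] {p : ℕ} [Fact p.Prime]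
    (hnc : ¬ Cfsg.IsPClosed p G) (hsub : ∀ H : Subgroup G, H ≠ ⊤ → Cfsg.IsPClosed p ↥H)
    (hquo : ∀ (N : Subgroup G) [N.Normal], N ≠ ⊥ → Cfsg.IsPClosed p (G ⧸ N))
    (hns : ¬ IsSimpleGroup G) :
    ∃ q : ℕ, q.Prime ∧ q ≠ p ∧ Nat.card G = p * q ^ orderOf (q : ZMod p) ∧
      ∃ A : Subgroup G, A.Normal ∧ Nat.card ↥A = q ^ orderOf (q : ZMod p) ∧
        Cfsg.IsElementaryAbelian q A ∧
        ∀ B : Subgroup G, B.Normal → B ≤ A → B = ⊥ ∨ B = A := by
  classical
  have hpp : p.Prime := Fact.out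
  -- Step 1: a proper nontrivial normal subgroup
  have hex : ∃ H₀ : Subgroup G, H₀.Normal ∧ H₀ ≠ ⊥ ∧ H₀ ≠ ⊤ := by
    by_contra hcon
    push_neg at hcon
    apply hns
    haveI : Nontrivial G := by
      by_contra hnt
      rw [not_nontrivial_iff_subsingleton] at hnt
      apply hnc
      apply mpc_pclosed_of_card_dvd
      rw [Nat.card_of_subsingleton (1 : G)]
      exact one_dvd p
    exact ⟨fun H hH => by
      by_cases h : H = ⊥
      · exact Or.inl h
      · exact Or.inr (hcon H hH h)⟩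
  obtain ⟨H₀, hH₀n, hH₀b, hH₀t⟩ := hex
  -- Step 2: a minimal normal subgroup
  obtain ⟨N, ⟨hNn, hNbot⟩, hNmin⟩ :=
    WellFounded.has_min (measure (fun H : Subgroup G => Nat.card H)).wf
      {H : Subgroup G | H.Normal ∧ H ≠ ⊥} ⟨H₀, hH₀n, hH₀b⟩
  have hNmin' : ∀ B : Subgroup G, B.Normal → B ≠ ⊥ → Nat.card N ≤ Nat.card B :=
    fun B hB hB' => not_lt.mp (hNmin B ⟨hB, hB'⟩)
  have hNtop : N ≠ ⊤ := by
    intro h
    apply hH₀t
    apply Subgroup.eq_top_of_le_card
    have := hNmin' H₀ hH₀n hH₀b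
    rw [h, Subgroup.card_top] at this
    exact this
  have hmin : ∀ B : Subgroup G, B.Normal → B ≤ N → B = ⊥ ∨ B = N := by
    intro B hB hBN
    by_cases h : B = ⊥
    · exact Or.inl h
    · exact Or.inr (Subgroup.eq_of_le_of_card_ge hBN (hNmin' B hB h))
  haveI := hNn
  -- Step 3: no Sylow p-subgroup is normal
  have hPnn : ∀ P : Sylow p G, ¬ (P : Subgroup G).Normal := by
    intro P hP
    apply hnc
    intro Q
    haveI := Sylow.unique_of_normal P hP
    rw [Subsingleton.elim Q P]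
    exact hP
  -- Step 4
  have hNnp : ¬ IsPGroup p N := fun hNp => hnc (mpc_Q1 N hNp (hquo N hNbot))
  -- Step 5
  have hpN : ¬ p ∣ Nat.card N := by
    intro hd
    obtain ⟨S⟩ : Nonempty (Sylow p N) := inferInstance
    have hSn : (S : Subgroup N).Normal := hsub N hNtop S
    haveI : (S : Subgroup N).Characteristic := Sylow.characteristic_of_normal _ hSn
    have hBn : ((S : Subgroup N).map N.subtype).Normal :=
      ConjAct.normal_of_characteristic_of_normal
    have hBN : (S : Subgroup N).map N.subtype ≤ N := by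
      rintro g ⟨s, -, rfl⟩
      exact s.2
    rcases hmin _ hBn hBN with h | h
    · apply S.ne_bot_of_dvd_card hd
      rw [eq_bot_iff]
      intro s hs
      have : (s : G) ∈ (S : Subgroup N).map N.subtype := Subgroup.mem_map_of_mem _ hs
      rw [h, Subgroup.mem_bot] at this
      rw [Subgroup.mem_bot]
      exact Subtype.ext this
    · apply hNnp
      intro g
      have hg : (g : G) ∈ (S : Subgroup N).map N.subtype := by rw [h]; exact g.2
      obtain ⟨s, hs, hsg⟩ := hg
      have : s = g := Subtype.ext hsg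
      subst this
      obtain ⟨k, hk⟩ := S.2 ⟨s, hs⟩
      refine ⟨k, ?_⟩
      have := congrArg Subtype.val hk
      simpa using this
  -- Step 6
  obtain ⟨P⟩ : Nonempty (Sylow p G) := inferInstance
  have hPN : ∀ g ∈ (P : Subgroup G), g ∈ N → g = 1 := by
    intro g hgP hgN
    obtain ⟨k, hk⟩ := P.2 ⟨g, hgP⟩
    have hk' : g ^ p ^ k = 1 := by
      have := congrArg Subtype.val hk
      simpa using this
    exact mpc_pelt N hpN g hgN k hk'
  have hPNtop : (P : Subgroup G) ⊔ N = ⊤ := by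
    have hsurj : Function.Surjective (QuotientGroup.mk' N) := QuotientGroup.mk'_surjective N
    have hPbn : ((P.mapSurjective hsurj : Sylow p (G ⧸ N)) : Subgroup (G ⧸ N)).Normal :=
      hquo N hNbot _
    rw [Sylow.coe_mapSurjective] at hPbn
    have hMn : (((P : Subgroup G).map (QuotientGroup.mk' N)).comap (QuotientGroup.mk' N)).Normal :=
      hPbn.comap _
    have hMeq : ((P : Subgroup G).map (QuotientGroup.mk' N)).comap (QuotientGroup.mk' N)
        = (P : Subgroup G) ⊔ N := by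
      rw [Subgroup.comap_map_eq, QuotientGroup.ker_mk']
    rw [hMeq] at hMn
    by_contra hne
    exact hPnn P (mpc_Q2 _ (hsub _ hne) P le_sup_left)
  -- Step 7: a central element of order p in P
  have hPbot : (P : Subgroup G) ≠ ⊥ := by
    intro h
    apply hPnn P
    rw [h]; infer_instance
  haveI : Nontrivial (P : Subgroup G) := (Subgroup.nontrivial_iff_ne_bot _).mpr hPbot
  have hcen : ⊥ < Subgroup.center (P : Subgroup G) := IsPGroup.bot_lt_center P.2
  have hcd : p ∣ Nat.card (Subgroup.center (P : Subgroup G)) := by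
    have hcp : IsPGroup p (Subgroup.center (P : Subgroup G)) := P.2.to_subgroup _
    rcases hcp.card_eq_or_dvd with h | h
    · exact absurd (Subgroup.eq_bot_of_card_eq _ h) hcen.ne'
    · exact h
  obtain ⟨z, hz⟩ := exists_prime_orderOf_dvd_card' p hcd
  obtain ⟨y, hy⟩ : ∃ y : G, y = ((z : (P : Subgroup G)) : G) := ⟨_, rfl⟩
  have hyo : orderOf y = p := by rw [hy, Subgroup.orderOf_coe, Subgroup.orderOf_coe, hz]
  have hyP : y ∈ (P : Subgroup G) := by rw [hy]; exact (z : (P : Subgroup G)).2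
  have hyc : ∀ x ∈ (P : Subgroup G), y * x = x * y := by
    intro x hx
    have := Subgroup.mem_center_iff.mp z.2 ⟨x, hx⟩
    rw [hy]
    exact (congrArg Subtype.val this).symm
  have hRP : Subgroup.zpowers y ≤ (P : Subgroup G) := (Subgroup.zpowers_le).mpr hyP
  have hRp : IsPGroup p (Subgroup.zpowers y) := P.2.to_le hRP
  have hRN : Subgroup.zpowers y ⊔ N = ⊤ := by
    by_contra hne
    have hyN := mpc_Q3 N hpN _ hRp (hsub _ hne) y (Subgroup.mem_zpowers y)
    have hycen : y ∈ Subgroup.center G := by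
      have hle : (P : Subgroup G) ⊔ N ≤ Subgroup.centralizer {y} := by
        apply sup_le
        · intro x hx
          rw [Subgroup.mem_centralizer_iff]
          intro h hh
          rw [Set.mem_singleton_iff] at hh; subst hh
          exact hyc x hx
        · intro n hn
          rw [Subgroup.mem_centralizer_iff]
          intro h hh
          rw [Set.mem_singleton_iff] at hh; subst hh
          exact hyN n hn
      rw [hPNtop] at hle
      rw [Subgroup.mem_center_iff]
      intro g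
      exact (Subgroup.mem_centralizer_iff.mp (hle (Subgroup.mem_top g)) y rfl).symm
    haveI hRn : (Subgroup.zpowers y).Normal := by
      refine ⟨fun b hb g => ?_⟩
      obtain ⟨k, rfl⟩ := Subgroup.mem_zpowers_iff.mp hb
      have hc : Commute g y := Subgroup.mem_center_iff.mp hycen g
      have e : g * y ^ k * g⁻¹ = y ^ k := by
        rw [(hc.zpow_right k).eq]; group
      rw [e]; exact Subgroup.zpow_mem_zpowers y k
    have hRbot : Subgroup.zpowers y ≠ ⊥ := by
      intro h
      have h1 : y = 1 := by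
        have := Subgroup.mem_zpowers y
        rw [h, Subgroup.mem_bot] at this
        exact this
      rw [h1, orderOf_one] at hyo
      exact hpp.one_lt.ne hyo
    exact hnc (mpc_Q1 _ hRp (hquo _ hRbot))
  have hidx : N.index = p := by
    have hbij : Function.Bijective ((QuotientGroup.mk' N).comp (Subgroup.zpowers y).subtype) := by
      constructor
      · rw [injective_iff_map_eq_one]
        intro a ha
        have h1 : (a : G) ∈ N := (QuotientGroup.eq_one_iff _).mp ha
        exact Subtype.ext (hPN _ (hRP a.2) h1)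
      · intro gb
        obtain ⟨g, rfl⟩ := QuotientGroup.mk'_surjective N gb
        have h1 : g ∈ ((Subgroup.zpowers y ⊔ N : Subgroup G) : Set G) := by rw [hRN]; trivial
        rw [Subgroup.mul_normal] at h1
        obtain ⟨r, hr, n, hn, hrn⟩ := Set.mem_mul.mp h1
        refine ⟨⟨r, hr⟩, ?_⟩
        show (QuotientGroup.mk' N) r = (QuotientGroup.mk' N) g
        have hn1 : (QuotientGroup.mk' N) n = 1 := (QuotientGroup.eq_one_iff n).mpr hn
        rw [← hrn, map_mul, hn1, mul_one]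
    rw [Subgroup.index_eq_card, ← Nat.card_eq_of_bijective _ hbij, Nat.card_zpowers, hyo]
  -- Step 8: the prime q
  have hCne : ¬ N ≤ Subgroup.centralizer ((P : Subgroup G) : Set G) := by
    intro hle
    apply hPnn P
    apply mpc_normal_of_gens (P : Subgroup G) (((P : Subgroup G) : Set G) ∪ (N : Set G))
    · rw [Subgroup.closure_union, Subgroup.closure_eq, Subgroup.closure_eq, hPNtop]
    · rintro g (hg | hg) b hb
      · exact (P : Subgroup G).mul_mem ((P : Subgroup G).mul_mem hg hb)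
          ((P : Subgroup G).inv_mem hg)
      · have := Subgroup.mem_centralizer_iff.mp (hle hg) b hb
        have e : g * b * g⁻¹ = b := by rw [← this]; group
        rw [e]; exact hb
  obtain ⟨C, hC⟩ : ∃ C : Subgroup N,
      C = (Subgroup.centralizer ((P : Subgroup G) : Set G)).subgroupOf N := ⟨_, rfl⟩
  have hCtop : C ≠ ⊤ := by
    intro h
    apply hCne
    rw [hC] at h
    exact Subgroup.subgroupOf_eq_top.mp h
  have hCi : C.index ≠ 1 := fun h => hCtop (Subgroup.index_eq_one.mp h)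
  obtain ⟨q, hq, hqd⟩ := Nat.exists_prime_and_dvd hCi
  haveI : Fact q.Prime := ⟨hq⟩
  have hqN : q ∣ Nat.card N := hqd.trans (Subgroup.index_dvd_card C)
  have hqp : q ≠ p := by
    rintro rfl
    exact hpN hqN
  letI act : MulAction (P : Subgroup G) (Sylow q N) :=
    MulAction.compHom (Sylow q N) ((MulAut.conjNormal (H := N)).comp (P : Subgroup G).subtype)
  have hfix : (MulAction.fixedPoints (P : Subgroup G) (Sylow q N)).Nonempty := by
    apply IsPGroup.nonempty_fixed_point_of_prime_not_dvd_card P.2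
    intro hd
    obtain ⟨Q₀⟩ : Nonempty (Sylow q N) := inferInstance
    exact hpN ((hd.trans (Sylow.card_dvd_index Q₀)).trans (Subgroup.index_dvd_card _))
  obtain ⟨Q, hQ⟩ := hfix
  have hQfix : ∀ g : G, g ∈ (P : Subgroup G) → ∀ b : N, b ∈ (Q : Subgroup N) →
      (⟨g * b * g⁻¹, hNn.conj_mem b b.2 g⟩ : N) ∈ (Q : Subgroup N) := by
    intro g hg b hb
    have h1 : (⟨g, hg⟩ : (P : Subgroup G)) • Q = Q := hQ ⟨g, hg⟩
    have h2 : (MulAut.conjNormal g : MulAut N) • (Q : Subgroup N) = (Q : Subgroup N) :=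
      congrArg (fun S : Sylow q N => (S : Subgroup N)) h1
    have h3 : (MulAut.conjNormal g : MulAut N) • b ∈
        (MulAut.conjNormal g : MulAut N) • (Q : Subgroup N) :=
      Subgroup.smul_mem_pointwise_smul b _ _ hb
    rw [h2] at h3
    exact h3
  obtain ⟨QG, hQG⟩ : ∃ QG : Subgroup G, QG = (Q : Subgroup N).map N.subtype := ⟨_, rfl⟩
  have hQGN : QG ≤ N := by
    rw [hQG]
    rintro g ⟨s, -, rfl⟩
    exact s.2
  have hQGmem : ∀ g : G, g ∈ QG ↔ ∃ h : g ∈ N, (⟨g, h⟩ : N) ∈ (Q : Subgroup N) := by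
    intro g
    rw [hQG]
    constructor
    · rintro ⟨s, hs, rfl⟩
      exact ⟨s.2, hs⟩
    · rintro ⟨h, hs⟩
      exact ⟨⟨g, h⟩, hs, rfl⟩
  have hPQ : ∀ g ∈ (P : Subgroup G), ∀ b ∈ QG, g * b * g⁻¹ ∈ QG := by
    intro g hg b hb
    obtain ⟨hbN, hbQ⟩ := (hQGmem b).mp hb
    exact (hQGmem _).mpr ⟨_, hQfix g hg ⟨b, hbN⟩ hbQ⟩
  have hQGbot : QG ≠ ⊥ := by
    intro h
    apply Q.ne_bot_of_dvd_card hqN
    rw [eq_bot_iff]
    intro s hs
    have : (s : G) ∈ QG := (hQGmem _).mpr ⟨s.2, hs⟩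
    rw [h, Subgroup.mem_bot] at this
    rw [Subgroup.mem_bot]
    exact Subtype.ext this
  have hQtop : (P : Subgroup G) ⊔ QG = ⊤ := by
    by_contra hne
    have hcl := hsub _ hne
    have hPH : (P : Subgroup G) ≤ (P : Subgroup G) ⊔ QG := le_sup_left
    have hSn : ((P.subtype hPH : Sylow p ↥((P : Subgroup G) ⊔ QG)) :
        Subgroup ↥((P : Subgroup G) ⊔ QG)).Normal := hcl _
    have hcent : QG ≤ Subgroup.centralizer ((P : Subgroup G) : Set G) := by
      intro g hg
      rw [Subgroup.mem_centralizer_iff]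
      intro x hx
      have hgH : g ∈ (P : Subgroup G) ⊔ QG := (le_sup_right : QG ≤ _) hg
      have h1 : (⟨g, hgH⟩ : ↥((P : Subgroup G) ⊔ QG)) * ⟨x, hPH hx⟩ *
          (⟨g, hgH⟩ : ↥((P : Subgroup G) ⊔ QG))⁻¹ ∈
          ((P.subtype hPH : Sylow p ↥((P : Subgroup G) ⊔ QG)) :
            Subgroup ↥((P : Subgroup G) ⊔ QG)) :=
        hSn.conj_mem _ (by rw [Sylow.coe_subtype]; exact Subgroup.mem_subgroupOf.mpr hx) _
      rw [Sylow.coe_subtype] at h1
      have h2 : g * x * g⁻¹ ∈ (P : Subgroup G) := Subgroup.mem_subgroupOf.mp h1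
      have h3 : g * x * g⁻¹ * x⁻¹ = 1 := by
        apply hPN
        · exact (P : Subgroup G).mul_mem h2 ((P : Subgroup G).inv_mem hx)
        · have : g * x * g⁻¹ * x⁻¹ = g * (x * g⁻¹ * x⁻¹) := by group
          rw [this]
          exact N.mul_mem (hQGN hg) (hNn.conj_mem _ (N.inv_mem (hQGN hg)) x)
      calc x * g = (g * x * g⁻¹ * x⁻¹)⁻¹ * (g * x) := by group
        _ = g * x := by rw [h3]; group
    have hQC : (Q : Subgroup N) ≤ C := by
      intro s hs
      rw [hC, Subgroup.mem_subgroupOf]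
      exact hcent ((hQGmem _).mpr ⟨s.2, hs⟩)
    have h1 : Nat.card (Q : Subgroup N) ∣ Nat.card C := Subgroup.card_dvd_of_le hQC
    rw [Q.card_eq_multiplicity] at h1
    have h2 : q ^ ((Nat.card N).factorization q + 1) ∣ Nat.card N := by
      rw [pow_succ]
      have h5 := mul_dvd_mul h1 hqd
      rw [C.card_mul_index] at h5
      exact h5
    exact Nat.pow_succ_factorization_not_dvd Nat.card_pos.ne' hq h2
  have hQGn : QG.Normal := by
    apply mpc_normal_of_gens QG (((P : Subgroup G) : Set G) ∪ (QG : Set G))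
    · rw [Subgroup.closure_union, Subgroup.closure_eq, Subgroup.closure_eq, hQtop]
    · rintro g (hg | hg) b hb
      · exact hPQ g hg b hb
      · exact QG.mul_mem (QG.mul_mem hg hb) (QG.inv_mem hg)
  have hQGeq : QG = N := (hmin QG hQGn hQGN).resolve_left hQGbot
  have hNq : IsPGroup q N := by
    intro g
    have hg : (g : G) ∈ QG := by rw [hQGeq]; exact g.2
    obtain ⟨_, hs⟩ := (hQGmem _).mp hg
    obtain ⟨k, hk⟩ := Q.2 ⟨g, hs⟩
    refine ⟨k, ?_⟩
    have := congrArg Subtype.val hk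
    simpa using this
  -- Step 9: N is elementary abelian
  haveI : Nontrivial N := (Subgroup.nontrivial_iff_ne_bot _).mpr hNbot
  have hZn : ((Subgroup.center N).map N.subtype).Normal :=
    ConjAct.normal_of_characteristic_of_normal
  have hZN : (Subgroup.center N).map N.subtype ≤ N := by
    rintro g ⟨s, -, rfl⟩
    exact s.2
  have hZbot : (Subgroup.center N).map N.subtype ≠ ⊥ := by
    intro h
    have hlt := IsPGroup.bot_lt_center hNq
    apply hlt.ne'
    rw [eq_bot_iff]
    intro s hs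
    have : (s : G) ∈ (Subgroup.center N).map N.subtype := Subgroup.mem_map_of_mem _ hs
    rw [h, Subgroup.mem_bot] at this
    rw [Subgroup.mem_bot]
    exact Subtype.ext this
  have hZeq := (hmin _ hZn hZN).resolve_left hZbot
  have hNc : ∀ a ∈ N, ∀ b ∈ N, a * b = b * a := by
    intro a ha b hb
    have : a ∈ (Subgroup.center N).map N.subtype := by rw [hZeq]; exact ha
    obtain ⟨s, hs, rfl⟩ := this
    have := Subgroup.mem_center_iff.mp hs ⟨b, hb⟩
    exact (congrArg Subtype.val this).symm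
  let Om : Subgroup G :=
    { carrier := {g | g ∈ N ∧ g ^ q = 1}
      mul_mem' := by
        rintro a b ⟨ha, ha'⟩ ⟨hb, hb'⟩
        refine ⟨N.mul_mem ha hb, ?_⟩
        rw [(show Commute a b from hNc a ha b hb).mul_pow, ha', hb', one_mul]
      one_mem' := ⟨N.one_mem, one_pow _⟩
      inv_mem' := by
        rintro a ⟨ha, ha'⟩
        exact ⟨N.inv_mem ha, by rw [inv_pow, ha', inv_one]⟩ }
  have hOmn : Om.Normal := by
    refine ⟨fun b hb g => ?_⟩
    obtain ⟨hbN, hbq⟩ := hb
    refine ⟨hNn.conj_mem b hbN g, ?_⟩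
    rw [conj_pow, hbq]; group
  have hOmN : Om ≤ N := fun g hg => hg.1
  have hOmbot : Om ≠ ⊥ := by
    intro h
    obtain ⟨s, hs⟩ := exists_prime_orderOf_dvd_card' q hqN
    have h1 : (s : G) ∈ Om := by
      refine ⟨s.2, ?_⟩
      have h2 := pow_orderOf_eq_one s
      rw [hs] at h2
      have h3 := congrArg Subtype.val h2
      simpa using h3
    rw [h, Subgroup.mem_bot] at h1
    have h4 : s = 1 := Subtype.ext h1
    rw [h4, orderOf_one] at hs
    exact hq.one_lt.ne hs
  have hOmeq := (hmin _ hOmn hOmN).resolve_left hOmbot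
  have hel : Cfsg.IsElementaryAbelian q N := by
    refine ⟨IsMulCommutative.of_comm (fun a b => Subtype.ext (hNc a a.2 b b.2)), ?_⟩
    intro a ha
    have : a ∈ Om := by rw [hOmeq]; exact ha
    exact this.2
  -- Step 10
  have hna : ¬ IsMulCommutative G := by
    intro hc
    apply hPnn P
    refine ⟨fun b hb g => ?_⟩
    have : g * b * g⁻¹ = b := by rw [mul_comm' g b]; group
    rw [this]; exact hb
  have hcard := mpc_card hq hqp hna N hel hidx hmin
  refine ⟨q, hq, hqp, ?_, N, hNn, hcard, hel, hmin⟩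
  rw [← N.card_mul_index, hidx, hcard, mul_comm]

end Cfsg.Agent.Lib.Helper6
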