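import Mathlib
import Cfsg.Prelude
import Cfsg.Agent.Lib.Helper6.MinPC2

set_option autoImplicit false

namespace Cfsg.Agent.Lib.Helper6

/-- In a group whose exponent is `p` times a `p'`-number, being `p`-exponent closed is the same
as being `p`-closed. -/
theorem mpc_expcl {X : Type*} [Group X] [Finite X] {p : ℕ} [Fact p.Prime] (m : ℕ)
    (hm : m.Coprime p) (hX : ∀ g : X, g ^ (p * m) = 1) :
    (∃ H : Subgroup X, (H : Set X) = {g : X | g ^ p = 1}) ↔ Cfsg.IsPClosed p X := by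
  have hpp : p.Prime := Fact.out
  have hpel : ∀ (g : X) (k : ℕ), g ^ p ^ k = 1 → g ^ p = 1 := by
    intro g k hk
    have h1 : orderOf g ∣ p ^ k := orderOf_dvd_of_pow_eq_one hk
    have h2 : orderOf g ∣ p * m := orderOf_dvd_of_pow_eq_one (hX g)
    have h3 : (orderOf g).Coprime m :=
      Nat.Coprime.coprime_dvd_left h1 (Nat.Coprime.pow_left k hm.symm)
    exact orderOf_dvd_iff_pow_eq_one.mp (h3.dvd_of_dvd_mul_right h2)
  constructor
  · rintro ⟨H, hH⟩
    have hmem : ∀ g : X, g ∈ H ↔ g ^ p = 1 := by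
      intro g
      have : g ∈ (H : Set X) ↔ g ∈ {g : X | g ^ p = 1} := by rw [hH]
      exact this
    have hHp : IsPGroup p H := by
      intro g
      refine ⟨1, ?_⟩
      rw [pow_one]
      exact Subtype.ext ((hmem g).mp g.2)
    have hHn : H.Normal := by
      refine ⟨fun b hb g => ?_⟩
      rw [hmem] at hb ⊢
      rw [conj_pow, hb]; group
    intro P
    have hPH : (P : Subgroup X) ≤ H := by
      intro g hg
      obtain ⟨k, hk⟩ := P.2 ⟨g, hg⟩
      have hk' : g ^ p ^ k = 1 := by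
        have := congrArg Subtype.val hk
        simpa using this
      exact (hmem g).mpr (hpel g k hk')
    rw [← P.is_maximal' hHp hPH]
    exact hHn
  · intro hcl
    obtain ⟨P⟩ : Nonempty (Sylow p X) := inferInstance
    have hPn : (P : Subgroup X).Normal := hcl P
    haveI := Sylow.unique_of_normal P hPn
    refine ⟨P, ?_⟩
    ext g
    constructor
    · intro hg
      obtain ⟨k, hk⟩ := P.2 ⟨g, hg⟩
      have hk' : g ^ p ^ k = 1 := by
        have := congrArg Subtype.val hk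
        simpa using this
      exact hpel g k hk'
    · intro hg
      have hg' : g ^ p = 1 := hg
      have hz : IsPGroup p (Subgroup.zpowers g) := by
        rintro ⟨h, hh⟩
        obtain ⟨j, rfl⟩ := Subgroup.mem_zpowers_iff.mp hh
        refine ⟨1, ?_⟩
        apply Subtype.ext
        show (g ^ j) ^ p ^ 1 = 1
        rw [pow_one, ← zpow_natCast, ← zpow_mul, mul_comm, zpow_mul, zpow_natCast, hg', one_zpow]
      obtain ⟨Q, hQ⟩ := hz.exists_le_sylow
      rw [Subsingleton.elim Q P] at hQ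
      exact hQ (Subgroup.mem_zpowers g)

/-- Structure of the non-simple, non-`p`-group minimal non-`p`-exponent-closed groups. -/
theorem mpc_struct_exp {G : Type*} [Group G] [Finite G] {p : ℕ} [Fact p.Prime]
    (hnc : ¬ (∃ H : Subgroup G, (H : Set G) = {g : G | g ^ p = 1}))
    (hsub : ∀ K : Subgroup G, K ≠ ⊤ → (∃ H : Subgroup ↥K, (H : Set ↥K) = {g : ↥K | g ^ p = 1}))
    (hquo : ∀ (N : Subgroup G) [N.Normal], N ≠ ⊥ →
      (∃ H : Subgroup (G ⧸ N), (H : Set (G ⧸ N)) = {g : (G ⧸ N) | g ^ p = 1}))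
    (hns : ¬ IsSimpleGroup G) (hnp : ¬ IsPGroup p G) :
    ∃ q : ℕ, q.Prime ∧ q ≠ p ∧ Nat.card G = p * q ^ orderOf (q : ZMod p) ∧
      ∃ A : Subgroup G, A.Normal ∧ Nat.card ↥A = q ^ orderOf (q : ZMod p) ∧
        Cfsg.IsElementaryAbelian q A ∧
        ∀ B : Subgroup G, B.Normal → B ≤ A → B = ⊥ ∨ B = A := by
  classical
  have hpp : p.Prime := Fact.out
  have hex : ∃ H₀ : Subgroup G, H₀.Normal ∧ H₀ ≠ ⊥ ∧ H₀ ≠ ⊤ := by
    by_contra hcon
    push_neg at hcon
    apply hns
    haveI : Nontrivial G := by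
      by_contra hnt
      rw [not_nontrivial_iff_subsingleton] at hnt
      apply hnp
      intro g
      exact ⟨0, Subsingleton.elim _ _⟩
    exact ⟨fun H hH => by
      by_cases h : H = ⊥
      · exact Or.inl h
      · exact Or.inr (hcon H hH h)⟩
  obtain ⟨H₀, hH₀n, hH₀b, hH₀t⟩ := hex
  obtain ⟨N, ⟨hNn, hNbot⟩, hNmin⟩ :=
    WellFounded.has_min (measure (fun H : Subgroup G => Nat.card H)).wf
      {H : Subgroup G | H.Normal ∧ H ≠ ⊥} ⟨H₀, hH₀n, hH₀b⟩
  have hNmin' : ∀ B : Subgroup G, B.Normal → B ≠ ⊥ → Nat.card N ≤ Nat.card B :=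
    fun B hB hB' => not_lt.mp (hNmin B ⟨hB, hB'⟩)
  have hNtop : N ≠ ⊤ := by
    intro h
    apply hH₀t
    apply Subgroup.eq_top_of_le_card
    have := hNmin' H₀ hH₀n hH₀b
    rw [h, Subgroup.card_top] at this
    exact this
  have hmin : ∀ B : Subgroup G, B.Normal → B ≤ N → B = ⊥ ∨ B = N := by
    intro B hB hBN
    by_cases h : B = ⊥
    · exact Or.inl h
    · exact Or.inr (Subgroup.eq_of_le_of_card_ge hBN (hNmin' B hB h))
  haveI := hNn
  -- G / N has exponent p
  obtain ⟨Hb, hHb⟩ := hquo N hNbot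
  have hHbmem : ∀ g : G ⧸ N, g ∈ Hb ↔ g ^ p = 1 := by
    intro g
    have : g ∈ (Hb : Set (G ⧸ N)) ↔ g ∈ {g : G ⧸ N | g ^ p = 1} := by rw [hHb]
    exact this
  have hWtop : Hb.comap (QuotientGroup.mk' N) = ⊤ := by
    by_contra hne
    obtain ⟨HW, hHW⟩ := hsub _ hne
    have hHWmem : ∀ g : ↥(Hb.comap (QuotientGroup.mk' N)), g ∈ HW ↔ g ^ p = 1 := by
      intro g
      have : g ∈ (HW : Set ↥(Hb.comap (QuotientGroup.mk' N))) ↔
          g ∈ {g : ↥(Hb.comap (QuotientGroup.mk' N)) | g ^ p = 1} := by rw [hHW]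
      exact this
    apply hnc
    refine ⟨HW.map (Subgroup.subtype _), ?_⟩
    ext g
    constructor
    · rintro ⟨w, hw, rfl⟩
      have h1 := (hHWmem w).mp hw
      have h2 := congrArg Subtype.val h1
      simpa using h2
    · intro hg
      have hg' : g ^ p = 1 := hg
      have hgW : g ∈ Hb.comap (QuotientGroup.mk' N) := by
        rw [Subgroup.mem_comap, hHbmem, ← map_pow, hg', map_one]
      refine ⟨⟨g, hgW⟩, ?_, rfl⟩
      rw [SetLike.mem_coe, hHWmem]
      exact Subtype.ext hg'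
  have hpN' : ∀ g : G, g ^ p ∈ N := by
    intro g
    have h1 : g ∈ Hb.comap (QuotientGroup.mk' N) := by rw [hWtop]; trivial
    rw [Subgroup.mem_comap, hHbmem, ← map_pow] at h1
    exact (QuotientGroup.eq_one_iff _).mp h1
  -- N has no elements of order p
  obtain ⟨HN, hHN⟩ := hsub N hNtop
  have hHNmem : ∀ g : N, g ∈ HN ↔ g ^ p = 1 := by
    intro g
    have : g ∈ (HN : Set N) ↔ g ∈ {g : N | g ^ p = 1} := by rw [hHN]
    exact this
  have hBmem : ∀ g : G, g ∈ HN.map N.subtype ↔ g ∈ N ∧ g ^ p = 1 := by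
    intro g
    constructor
    · rintro ⟨w, hw, rfl⟩
      refine ⟨w.2, ?_⟩
      have h1 := (hHNmem w).mp hw
      have h2 := congrArg Subtype.val h1
      simpa using h2
    · rintro ⟨hgN, hg⟩
      exact ⟨⟨g, hgN⟩, (hHNmem _).mpr (Subtype.ext hg), rfl⟩
  have hBn : (HN.map N.subtype).Normal := by
    refine ⟨fun b hb g => ?_⟩
    rw [hBmem] at hb ⊢
    refine ⟨hNn.conj_mem b hb.1 g, ?_⟩
    rw [conj_pow, hb.2]; group
  have hBN : HN.map N.subtype ≤ N := fun g hg => ((hBmem g).mp hg).1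
  have hNp : ∀ n ∈ N, n ^ p = 1 → n = 1 := by
    rcases hmin _ hBn hBN with h | h
    · intro n hn hnp'
      have : n ∈ HN.map N.subtype := (hBmem n).mpr ⟨hn, hnp'⟩
      rw [h, Subgroup.mem_bot] at this
      exact this
    · exfalso
      apply hnp
      intro g
      refine ⟨2, ?_⟩
      have h1 : g ^ p ∈ HN.map N.subtype := by rw [h]; exact hpN' g
      have h2 := ((hBmem _).mp h1).2
      rw [pow_two, pow_mul]
      exact h2
  have hpN : ¬ p ∣ Nat.card N := by
    intro hd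
    obtain ⟨s, hs⟩ := exists_prime_orderOf_dvd_card' p hd
    have h1 : (s : G) ^ p = 1 := by
      have h2 := pow_orderOf_eq_one s
      rw [hs] at h2
      have h3 := congrArg Subtype.val h2
      simpa using h3
    have h4 : s = 1 := Subtype.ext (hNp _ s.2 h1)
    rw [h4, orderOf_one] at hs
    exact hpp.one_lt.ne hs
  have hm : (Nat.card N).Coprime p := ((Nat.Prime.coprime_iff_not_dvd hpp).mpr hpN).symm
  have hE : ∀ g : G, g ^ (p * Nat.card N) = 1 := by
    intro g
    rw [pow_mul]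
    have h1 : (⟨g ^ p, hpN' g⟩ : N) ^ Nat.card N = 1 := pow_card_eq_one'
    have h2 := congrArg Subtype.val h1
    simpa only [Subgroup.coe_pow, Subgroup.coe_one] using h2
  have hnc' : ¬ Cfsg.IsPClosed p G := fun h => hnc ((mpc_expcl _ hm hE).mpr h)
  have hsub' : ∀ H : Subgroup G, H ≠ ⊤ → Cfsg.IsPClosed p ↥H := by
    intro H hH
    refine (mpc_expcl _ hm ?_).mp (hsub H hH)
    intro g
    exact Subtype.ext (by simpa using hE (g : G))
  have hquo' : ∀ (K : Subgroup G) [K.Normal], K ≠ ⊥ → Cfsg.IsPClosed p (G ⧸ K) := by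
    intro K _ hK
    refine (mpc_expcl _ hm ?_).mp (hquo K hK)
    intro g
    obtain ⟨g, rfl⟩ := QuotientGroup.mk'_surjective K g
    rw [← map_pow, hE g, map_one]
  exact mpc_struct hnc' hsub' hquo' hns

end Cfsg.Agent.Lib.Helper6
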