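import Cfsg.Agent.Lib.Helper6.PResidual

set_option autoImplicit false

namespace Cfsg.Agent.Lib.Helper6

open Cfsg

theorem pi_sylow_normal_of_pclosed {H : Type*} [Group H] [Finite H] {p : ℕ} [Fact p.Prime]
    (N : Subgroup H) [hN : N.Normal] (T : Sylow p H) (hTN : (T : Subgroup H) ≤ N)
    (hcl : IsPClosed p ↥N) : (T : Subgroup H).Normal := by
  have h1 : ((T.subtype hTN : Sylow p ↥N) : Subgroup ↥N).Normal := hcl _
  have h2 : ((T.subtype hTN : Sylow p ↥N) : Subgroup ↥N).Characteristic :=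
    Sylow.characteristic_of_normal _ h1
  have h3 : (((T.subtype hTN : Sylow p ↥N) : Subgroup ↥N).map N.subtype).Normal :=
    ConjAct.normal_of_characteristic_of_normal
  rw [Sylow.coe_subtype, Subgroup.subgroupOf_map_subtype, inf_eq_left.2 hTN] at h3
  exact h3

theorem pi_pclosed_of_sylow_normal {H : Type*} [Group H] [Finite H] {p : ℕ} [Fact p.Prime]
    (T : Sylow p H) (hT : (T : Subgroup H).Normal) : IsPClosed p H := by
  intro P
  obtain ⟨g, rfl⟩ := MulAction.exists_smul_eq H T P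
  rw [Sylow.smul_eq_of_normal]
  exact hT

theorem pi_not_pclosed_of_sylow_le {H : Type*} [Group H] [Finite H] {p : ℕ} [Fact p.Prime]
    (hH : ¬ IsPClosed p H) (N : Subgroup H) [hN : N.Normal] (T : Sylow p H)
    (hTN : (T : Subgroup H) ≤ N) : ¬ IsPClosed p ↥N := fun hcl =>
  hH (pi_pclosed_of_sylow_normal T (pi_sylow_normal_of_pclosed N T hTN hcl))

theorem pi_not_pclosed_of_not_le_pcore {H : Type*} [Group H] [Finite H] {p : ℕ} [Fact p.Prime]
    (N : Subgroup H) [hN : N.Normal] (Y : Subgroup H) (hYN : Y ≤ N) (hY : IsPGroup p ↥Y)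
    (hYO : ¬ Y ≤ pCore p H) : ¬ IsPClosed p ↥N := by
  intro hcl
  apply hYO
  obtain ⟨P₀, hP₀⟩ := (hY.comap_subtype (K := N)).exists_le_sylow
  have h1 : (P₀ : Subgroup ↥N).Normal := hcl _
  have h2 : (P₀ : Subgroup ↥N).Characteristic := Sylow.characteristic_of_normal _ h1
  have h3 : ((P₀ : Subgroup ↥N).map N.subtype).Normal :=
    ConjAct.normal_of_characteristic_of_normal
  have h4 : IsPGroup p ↥((P₀ : Subgroup ↥N).map N.subtype) := P₀.isPGroup'.map _
  intro y hy
  exact pc_le h3 h4 ⟨⟨y, hYN hy⟩, hP₀ (show (⟨y, hYN hy⟩ : ↥N) ∈ Y.subgroupOf N from hy), rfl⟩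

theorem gl_mem_of_coprime_pow {H : Type*} [Group H] [Finite H] {p : ℕ} (N : Subgroup H) {x : H}
    (hx : Nat.Coprime (orderOf x) p) {k : ℕ} (hk : x ^ (p ^ k) ∈ N) : x ∈ N := by
  have hpos := orderOf_pos x
  rcases Nat.lt_or_ge 1 (orderOf x) with h1 | h1
  · obtain ⟨m, -, hm⟩ := Nat.exists_mul_mod_eq_one_of_coprime
      (Nat.Coprime.pow_left k hx.symm) h1
    have : x = (x ^ (p ^ k)) ^ m := by
      rw [← pow_mul, ← pow_mod_orderOf, hm, pow_one]
    rw [this]
    exact N.pow_mem hk m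
  · have : orderOf x = 1 := by omega
    rw [orderOf_eq_one_iff] at this
    rw [this]; exact N.one_mem

theorem gl_normal_of_commutator_le {H : Type*} [Group H] (K : Subgroup H)
    (h : commutator H ≤ K) : K.Normal := by
  constructor
  intro k hk g
  have h1 : g * k * g⁻¹ * k⁻¹ ∈ commutator H :=
    Subgroup.commutator_mem_commutator (Subgroup.mem_top g) (Subgroup.mem_top k)
  have e : g * k * g⁻¹ = (g * k * g⁻¹ * k⁻¹) * k := by group
  rw [e]
  exact K.mul_mem (h h1) hk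

theorem gl_le_normalizer_commutator_left {H : Type*} [Group H] (A B : Subgroup H) :
    A ≤ Subgroup.normalizer ((⁅A, B⁆ : Subgroup H) : Set H) := by
  rw [Subgroup.commutator_def, Subgroup.le_normalizer_closure_iff]
  rintro r hr _ ⟨a, ha, y, hy, rfl⟩
  rw [← Subgroup.commutator_def]
  have h1 : (r * a) * y * (r * a)⁻¹ * y⁻¹ ∈ ⁅A, B⁆ :=
    Subgroup.commutator_mem_commutator (A.mul_mem hr ha) hy
  have h2 : r * y * r⁻¹ * y⁻¹ ∈ ⁅A, B⁆ := Subgroup.commutator_mem_commutator hr hy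
  have e : r * (a * y * a⁻¹ * y⁻¹) * r⁻¹ =
      ((r * a) * y * (r * a)⁻¹ * y⁻¹) * (r * y * r⁻¹ * y⁻¹)⁻¹ := by group
  show r * (a * y * a⁻¹ * y⁻¹) * r⁻¹ ∈ _
  rw [e]
  exact Subgroup.mul_mem _ h1 (Subgroup.inv_mem _ h2)

theorem gl_le_normalizer_sup_of {H : Type*} [Group H] (R A B : Subgroup H)
    (h1 : ∀ r ∈ R, ∀ y ∈ A, r * y * r⁻¹ ∈ A ⊔ B)
    (h2 : ∀ r ∈ R, ∀ w ∈ B, r * w * r⁻¹ ∈ A ⊔ B) :
    R ≤ Subgroup.normalizer ((A ⊔ B : Subgroup H) : Set H) := by
  have e : A ⊔ B = Subgroup.closure ((A : Set H) ∪ B) := by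
    rw [Subgroup.closure_union, Subgroup.closure_eq, Subgroup.closure_eq]
  rw [e, Subgroup.le_normalizer_closure_iff]
  rintro r hr g (hg | hg)
  · rw [← e]; exact h1 r hr g hg
  · rw [← e]; exact h2 r hr g hg

theorem pi_main {H : Type*} [Group H] [Finite H] {p : ℕ} [Fact p.Prime]
    (hH : IsPIrreducible p H) (T : Sylow p H) :
    Subgroup.normalClosure ((T : Subgroup H) : Set H) = ⊤ ∧
    commutator H ⊔ (T : Subgroup H) = ⊤ ∧ pResidual p H ≤ commutator H ∧
    ∀ Y : Subgroup H, Y ≤ (T : Subgroup H) → (T : Subgroup H) ≤ Subgroup.normalizer (Y : Set H) →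
      ¬ Y ≤ pCore p H → ⁅pResidual p H, Y⁆ = pResidual p H ∧
        pResidual p H ≤ Subgroup.normalClosure (Y : Set H) := by
  have hRn : (pResidual p H).Normal := pres_normal p H
  have hfac : ∀ h : H, ∃ r ∈ pResidual p H, ∃ t ∈ T, h = r * t := pres_exists_mul T
  have htop_of : ∀ N : Subgroup H, pResidual p H ≤ N → (T : Subgroup H) ≤ N → N = ⊤ := by
    intro N h1 h2
    rw [eq_top_iff]
    intro h _
    obtain ⟨r, hr, t, ht, rfl⟩ := hfac h
    exact N.mul_mem (h1 hr) (h2 ht)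
  have p1 : Subgroup.normalClosure ((T : Subgroup H) : Set H) = ⊤ :=
    htop_of _ (hH.2 _ Subgroup.normalClosure_normal
      (pi_not_pclosed_of_sylow_le hH.1 _ T Subgroup.le_normalClosure)) Subgroup.le_normalClosure
  have hn2 : (commutator H ⊔ (T : Subgroup H)).Normal :=
    gl_normal_of_commutator_le _ le_sup_left
  have p2 : commutator H ⊔ (T : Subgroup H) = ⊤ := by
    rw [eq_top_iff, ← p1]
    exact Subgroup.normalClosure_le_normal (fun x hx => Subgroup.mem_sup_right hx)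
  have hpow : ∀ (W : Subgroup H), W.Normal → ∀ (Y : Subgroup H), IsPGroup p ↥Y →
      ∀ x ∈ Y ⊔ W, ∃ k : ℕ, x ^ (p ^ k) ∈ W := by
    intro W hW Y hY x hx
    obtain ⟨y, hy, w, hw, rfl⟩ := Subgroup.mem_sup_of_normal_right.1 hx
    obtain ⟨k, hk⟩ := hY ⟨y, hy⟩
    have hk' : y ^ (p ^ k) = 1 := by
      have := congrArg Subtype.val hk
      simpa using this
    obtain ⟨c', hc', e⟩ := gl_pow_mem_of_normalizes (C := W) (d := y) (c := w)
      (Subgroup.le_normalizer_of_normal (Subgroup.mem_top y)) hw (p ^ k)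
    refine ⟨k, ?_⟩
    rw [e, hk', one_mul]
    exact hc'
  have p3 : pResidual p H ≤ commutator H := by
    unfold pResidual
    rw [Subgroup.closure_le]
    intro x hx
    have hx' : x ∈ (T : Subgroup H) ⊔ commutator H := by
      rw [sup_comm, p2]; exact Subgroup.mem_top x
    obtain ⟨k, hk⟩ := hpow (commutator H) inferInstance (T : Subgroup H) T.isPGroup' x hx'
    exact gl_mem_of_coprime_pow _ hx hk
  refine ⟨p1, p2, p3, ?_⟩
  intro Y hYT hTY hYO
  have hYp : IsPGroup p ↥Y := T.isPGroup'.to_le hYT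
  have hWR : ⁅pResidual p H, Y⁆ ≤ pResidual p H := Subgroup.commutator_le_left _ _
  have hTW : (T : Subgroup H) ≤ Subgroup.normalizer ((⁅pResidual p H, Y⁆ : Subgroup H) : Set H) :=
    (le_inf Subgroup.le_normalizer_of_normal hTY).trans (gl_normalizer_commutator _ _)
  have hRW := gl_le_normalizer_commutator_left (pResidual p H) Y
  have hWn : (⁅pResidual p H, Y⁆ : Subgroup H).Normal := by
    rw [← Subgroup.normalizer_eq_top_iff]
    exact htop_of _ hRW hTW
  have hYWn : (Y ⊔ ⁅pResidual p H, Y⁆ : Subgroup H).Normal := by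
    rw [← Subgroup.normalizer_eq_top_iff]
    refine htop_of _ ?_ ?_
    · apply gl_le_normalizer_sup_of
      · intro r hr y hy
        have e : r * y * r⁻¹ = (r * y * r⁻¹ * y⁻¹) * y := by group
        rw [e]
        exact Subgroup.mul_mem _ (Subgroup.mem_sup_right
          (Subgroup.commutator_mem_commutator hr hy)) (Subgroup.mem_sup_left hy)
      · intro r hr w hw
        exact Subgroup.mem_sup_right (gl_mem_normalizer_conj (hRW hr) hw)
    · apply gl_le_normalizer_sup_of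
      · intro t ht y hy
        exact Subgroup.mem_sup_left (gl_mem_normalizer_conj (hTY ht) hy)
      · intro t ht w hw
        exact Subgroup.mem_sup_right (gl_mem_normalizer_conj (hTW ht) hw)
  have hRYW : pResidual p H ≤ Y ⊔ ⁅pResidual p H, Y⁆ :=
    hH.2 _ hYWn (pi_not_pclosed_of_not_le_pcore _ Y le_sup_left hYp hYO)
  refine ⟨le_antisymm hWR ?_, hH.2 _ Subgroup.normalClosure_normal
    (pi_not_pclosed_of_not_le_pcore _ Y Subgroup.le_normalClosure hYp hYO)⟩
  intro z hz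
  have hz' := hz
  unfold pResidual at hz
  refine Subgroup.closure_le (K := ⁅pResidual p H, Y⁆) |>.2 ?_ hz
  intro x hx
  have hxR : x ∈ pResidual p H := Subgroup.subset_closure hx
  obtain ⟨k, hk⟩ := hpow _ hWn Y hYp x (hRYW hxR)
  exact gl_mem_of_coprime_pow _ hx hk

end Cfsg.Agent.Lib.Helper6
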