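import Cfsg.Agent.Lib.Helper6.PIrred
import Cfsg.Agent.Lib.Helper6.TraceSplit

set_option autoImplicit false

namespace Cfsg.Agent.Lib.Helper6

open Cfsg

theorem pi_pclosed_of_comm_le_pcore {H : Type*} [Group H] {p : ℕ} [Fact p.Prime]
    (N : Subgroup H) [hN : N.Normal] (h : ⁅N, (⊤ : Subgroup H)⁆ ≤ pCore p H) :
    IsPClosed p ↥N := by
  intro P
  have hQn : ((pCore p H).subgroupOf N).Normal := inferInstance
  have hQP : (pCore p H).subgroupOf N ≤ P :=
    ((pc_isPGroup p H).comap_subtype).le_sylow_of_normal P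
  constructor
  intro x hx n
  have h1 : (n : H) * (x : H) * (n : H)⁻¹ * (x : H)⁻¹ ∈ pCore p H :=
    h (Subgroup.commutator_mem_commutator n.2 (Subgroup.mem_top _))
  have h2 : n * x * n⁻¹ * x⁻¹ ∈ (P : Subgroup ↥N) := hQP h1
  have e : n * x * n⁻¹ = (n * x * n⁻¹ * x⁻¹) * x := by group
  rw [e]
  exact Subgroup.mul_mem _ h2 hx

theorem pi_of_strongly {H : Type*} [Group H] {p : ℕ} [Fact p.Prime]
    (hH : IsStronglyPIrreducible p H) : IsPIrreducible p H := by
  refine ⟨hH.1, fun N hN hcl => hH.2 N hN (fun h => hcl ?_)⟩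
  exact pi_pclosed_of_comm_le_pcore N h

theorem pi_le_of_quot_pgroup {H : Type*} [Group H] [Finite H] {p : ℕ} [Fact p.Prime]
    (T : Sylow p H) (N : Subgroup H) [hN : N.Normal] (hNT : N ⊔ (T : Subgroup H) = ⊤) :
    pResidual p H ≤ N := by
  unfold pResidual
  rw [Subgroup.closure_le]
  intro x hx
  have hx' : x ∈ (T : Subgroup H) ⊔ N := by rw [sup_comm, hNT]; exact Subgroup.mem_top x
  obtain ⟨y, hy, w, hw, rfl⟩ := Subgroup.mem_sup_of_normal_right.1 hx'
  obtain ⟨k, hk⟩ := T.isPGroup' ⟨y, hy⟩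
  have hk' : y ^ (p ^ k) = 1 := by
    have := congrArg Subtype.val hk
    simpa using this
  obtain ⟨c', hc', e⟩ := gl_pow_mem_of_normalizes (C := N) (d := y) (c := w)
    (Subgroup.le_normalizer_of_normal (Subgroup.mem_top y)) hw (p ^ k)
  exact gl_mem_of_coprime_pow N hx (k := k) (by rw [e, hk', one_mul]; exact hc')

theorem pi_of_minimalOver {H : Type*} [Group H] [Finite H] {p : ℕ} [Fact p.Prime] (T : Sylow p H)
    (hmin : IsMinimalOver (T : Subgroup H)) : IsPIrreducible p H := by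
  obtain ⟨hcl, M, ⟨hMco, hTM⟩, hMuniq⟩ := hmin
  have hTn : ¬ (T : Subgroup H).Normal := by
    intro hn
    have h1 : (T : Subgroup H) = ⊤ := by
      rw [← hcl]
      exact (Subgroup.normalClosure_eq_self _).symm
    rw [h1] at hTM
    exact hMco.1 (top_le_iff.1 hTM)
  have hmax : ∀ K : Subgroup H, (T : Subgroup H) ≤ K → K ≠ ⊤ → K ≤ M := by
    intro K hTK hK
    obtain ⟨M', hM', hKM'⟩ := (eq_top_or_exists_le_coatom K).resolve_left hK
    have h2 := hMuniq M' ⟨hM', hTK.trans hKM'⟩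
    rw [← h2]; exact hKM'
  refine ⟨fun hc => hTn (hc T), ?_⟩
  intro N hN hNcl
  by_cases hNT : N ⊔ (T : Subgroup H) = ⊤
  · exact pi_le_of_quot_pgroup T N hNT
  · exfalso
    have hNM : N ≤ M := le_sup_left.trans (hmax _ le_sup_right hNT)
    obtain ⟨P, hP⟩ := gl_sylow_inf_of_le_normalizer T N Subgroup.le_normalizer_of_normal
    have h1 := Sylow.normalizer_sup_eq_top P
    rw [hP, Subgroup.subgroupOf_map_subtype, inf_assoc, inf_idem] at h1
    have hTle : (T : Subgroup H) ≤
        Subgroup.normalizer ((((T : Subgroup H) ⊓ N : Subgroup H)) : Set H) :=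
      (le_inf Subgroup.le_normalizer Subgroup.le_normalizer_of_normal).trans
        (gl_normalizer_inf _ _)
    by_cases hNn : Subgroup.normalizer ((((T : Subgroup H) ⊓ N : Subgroup H)) : Set H) = ⊤
    · apply hNcl
      have hPn : (P : Subgroup ↥N).Normal := by
        rw [hP]
        have : ((T : Subgroup H) ⊓ N).Normal := Subgroup.normalizer_eq_top_iff.1 hNn
        infer_instance
      exact pi_pclosed_of_sylow_normal P hPn
    · have h3 := hmax _ hTle hNn
      have htop : (⊤ : Subgroup H) ≤ M := by rw [← h1]; exact sup_le h3 hNM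
      exact hMco.1 (top_le_iff.1 htop)

end Cfsg.Agent.Lib.Helper6
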