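import Cfsg.Agent.Lib.Helper6.PIrred2

set_option autoImplicit false

namespace Cfsg.Agent.Lib.Helper6

open Cfsg

theorem gl_comap_map_mk {H : Type*} [Group H] (N : Subgroup H) [N.Normal] (K : Subgroup H)
    (hNK : N ≤ K) : (K.map (QuotientGroup.mk' N)).comap (QuotientGroup.mk' N) = K := by
  rw [Subgroup.comap_map_eq, QuotientGroup.ker_mk', sup_eq_left.2 hNK]

theorem gl_map_comap_mk {H : Type*} [Group H] (N : Subgroup H) [N.Normal]
    (K : Subgroup (H ⧸ N)) : (K.comap (QuotientGroup.mk' N)).map (QuotientGroup.mk' N) = K :=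
  Subgroup.map_comap_eq_self_of_surjective (QuotientGroup.mk'_surjective N) K

theorem gl_le_comap_mk {H : Type*} [Group H] (N : Subgroup H) [N.Normal]
    (K : Subgroup (H ⧸ N)) : N ≤ K.comap (QuotientGroup.mk' N) := by
  intro n hn
  rw [Subgroup.mem_comap, QuotientGroup.mk'_apply, (QuotientGroup.eq_one_iff n).2 hn]
  exact K.one_mem

theorem gl_isCoatom_map_mk {H : Type*} [Group H] (N : Subgroup H) [N.Normal] (M : Subgroup H)
    (hM : IsCoatom M) (hNM : N ≤ M) : IsCoatom (M.map (QuotientGroup.mk' N)) := by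
  refine ⟨fun h => hM.1 ?_, fun K hK => ?_⟩
  · rw [← gl_comap_map_mk N M hNM, h, Subgroup.comap_top]
  · have h1 : M ≤ K.comap (QuotientGroup.mk' N) := by
      rw [← gl_comap_map_mk N M hNM]
      exact Subgroup.comap_mono hK.le
    have h2 : M ≠ K.comap (QuotientGroup.mk' N) := by
      intro h
      apply hK.ne
      rw [h, gl_map_comap_mk]
    have h3 := hM.2 _ (lt_of_le_of_ne h1 h2)
    rw [← gl_map_comap_mk N K, h3]
    exact Subgroup.map_top_of_surjective _ (QuotientGroup.mk'_surjective N)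

theorem gl_isCoatom_comap_mk {H : Type*} [Group H] (N : Subgroup H) [N.Normal]
    (M : Subgroup (H ⧸ N)) (hM : IsCoatom M) : IsCoatom (M.comap (QuotientGroup.mk' N)) := by
  refine ⟨fun h => hM.1 ?_, fun K hK => ?_⟩
  · rw [← gl_map_comap_mk N M, h]
    exact Subgroup.map_top_of_surjective _ (QuotientGroup.mk'_surjective N)
  · have hNK : N ≤ K := (gl_le_comap_mk N M).trans hK.le
    have h1 : M ≤ K.map (QuotientGroup.mk' N) := by
      rw [← gl_map_comap_mk N M]
      exact Subgroup.map_mono hK.le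
    have h2 : M ≠ K.map (QuotientGroup.mk' N) := by
      intro h
      apply hK.ne
      rw [h, gl_comap_map_mk N K hNK]
    have h3 := hM.2 _ (lt_of_le_of_ne h1 h2)
    rw [← gl_comap_map_mk N K hNK, h3, Subgroup.comap_top]

theorem pi_minimalOver_quot {H : Type*} [Group H] [Finite H] {p : ℕ} [Fact p.Prime] (T : Sylow p H)
    (hmin : IsMinimalOver (T : Subgroup H)) (N : Subgroup H) [N.Normal] :
    IsPGroup p (H ⧸ N) ∨ IsMinimalOver ((T : Subgroup H).map (QuotientGroup.mk' N)) := by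
  obtain ⟨hcl, M, ⟨hMco, hTM⟩, hMuniq⟩ := hmin
  have hmax : ∀ K : Subgroup H, (T : Subgroup H) ≤ K → K ≠ ⊤ → K ≤ M := by
    intro K hTK hK
    obtain ⟨M', hM', hKM'⟩ := (eq_top_or_exists_le_coatom K).resolve_left hK
    have h2 := hMuniq M' ⟨hM', hTK.trans hKM'⟩
    rw [← h2]; exact hKM'
  by_cases hNT : N ⊔ (T : Subgroup H) = ⊤
  · left
    intro x
    obtain ⟨g, rfl⟩ := QuotientGroup.mk'_surjective N x
    have hg : g ∈ (T : Subgroup H) ⊔ N := by rw [sup_comm, hNT]; exact Subgroup.mem_top g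
    obtain ⟨y, hy, w, hw, rfl⟩ := Subgroup.mem_sup_of_normal_right.1 hg
    obtain ⟨k, hk⟩ := T.isPGroup' ⟨y, hy⟩
    have hk' : y ^ (p ^ k) = 1 := by
      have := congrArg Subtype.val hk
      simpa using this
    refine ⟨k, ?_⟩
    have hw1 : QuotientGroup.mk' N w = 1 := by
      rw [QuotientGroup.mk'_apply]; exact (QuotientGroup.eq_one_iff w).2 hw
    rw [map_mul, hw1, mul_one, ← map_pow, hk', map_one]
  · right
    have hNM : N ≤ M := le_sup_left.trans (hmax _ le_sup_right hNT)
    refine ⟨?_, M.map (QuotientGroup.mk' N), ⟨gl_isCoatom_map_mk N M hMco hNM,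
      Subgroup.map_mono hTM⟩, ?_⟩
    · have h1 := Subgroup.map_normalClosure ((T : Subgroup H) : Set H) (QuotientGroup.mk' N)
        (QuotientGroup.mk'_surjective N)
      rw [hcl, Subgroup.map_top_of_surjective _ (QuotientGroup.mk'_surjective N)] at h1
      rw [Subgroup.coe_map, ← h1]
    · rintro M' ⟨hM'co, hTM'⟩
      have h1 := gl_isCoatom_comap_mk N M' hM'co
      have h2 : (T : Subgroup H) ≤ M'.comap (QuotientGroup.mk' N) := by
        rw [← Subgroup.map_le_iff_le_comap]; exact hTM'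
      have h3 := hMuniq _ ⟨h1, h2⟩
      rw [← h3, gl_map_comap_mk]

end Cfsg.Agent.Lib.Helper6
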