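import Cfsg.Agent.Lib.Helper6.PReduced7

set_option autoImplicit false

namespace Cfsg.Agent.Lib.Helper6

open Cfsg

theorem pr_Lstar {H : Type*} [Group H] [Finite H] {p : ℕ} [Fact p.Prime] (T : Sylow p H)
    (L M : Subgroup H) (hTL : (T : Subgroup H) ≤ L) (hTM : (T : Subgroup H) ≤ M)
    (hL : Subgroup.centralizer (pCore p ↥L : Set ↥L) ≤ pCore p ↥L)
    (hM : Subgroup.centralizer (pCore p ↥M : Set ↥M) ≤ pCore p ↥M)
    (T₀ : Subgroup H)
    (hT₀ : T₀ = (T : Subgroup H) ⊓ Subgroup.centralizer ((largestPReducedOf p L : Subgroup H) : Set H))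
    (hfac : M ⊔ Subgroup.centralizer ((largestPReducedOf p L : Subgroup H) : Set H) = L ⊔ Subgroup.centralizer ((largestPReducedOf p L : Subgroup H) : Set H))
    (Ls : Subgroup H) (hLs : Ls = M ⊓ Subgroup.normalizer ((T₀ : Subgroup H) : Set H)) :
    largestPReducedOf p Ls = largestPReducedOf p L ∧ L ⊔ Subgroup.centralizer ((largestPReducedOf p L : Subgroup H) : Set H) = Ls ⊔ Subgroup.centralizer ((largestPReducedOf p L : Subgroup H) : Set H) := by
  have hYL' : IsPReducedNormal p (largestPReduced p ↥L) := pr_largest_isPReduced hL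
  have hLY : L ≤ Subgroup.normalizer ((largestPReducedOf p L : Subgroup H) : Set H) :=
    gl_le_normalizer_map_of_normal L _ (pr_largest_normal p)
  have hNC := gl_normalizer_le_normalizer_centralizer (largestPReducedOf p L)
  have hYT : largestPReducedOf p L ≤ (T : Subgroup H) :=
    (pr_largestOf_le_pCoreOf L hL).trans (gl_pCoreOf_le_sylow T L hTL)
  have hYmem : ∀ a ∈ largestPReducedOf p L, a ∈ pCoreOf p L ∧
      a ∈ Subgroup.centralizer (pCoreOf p L : Set H) ∧ a ^ p = 1 :=
    fun a ha => fr_omegaOne_center_mem p (pCoreOf p L) (pr_largestOf_le_zomega L hL ha)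
  have hYC : largestPReducedOf p L ≤ Subgroup.centralizer ((largestPReducedOf p L : Subgroup H) : Set H) := by
    intro a ha
    rw [Subgroup.mem_centralizer_iff]
    intro b hb
    exact (Subgroup.mem_centralizer_iff.1 (hYmem a ha).2.1) b (hYmem b hb).1
  have hT₀T : T₀ ≤ (T : Subgroup H) := by rw [hT₀]; exact inf_le_left
  have hYT₀ : largestPReducedOf p L ≤ T₀ := by rw [hT₀]; exact le_inf hYT hYC
  have hTNC : (T : Subgroup H) ≤ Subgroup.normalizer ((Subgroup.centralizer ((largestPReducedOf p L : Subgroup H) : Set H) : Subgroup H) : Set H) :=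
    hTL.trans (hLY.trans hNC)
  have hTNT₀ : (T : Subgroup H) ≤ Subgroup.normalizer (T₀ : Set H) := by
    rw [hT₀]
    exact (le_inf Subgroup.le_normalizer hTNC).trans (gl_normalizer_inf _ _)
  have hLC : L ⊔ Subgroup.centralizer ((largestPReducedOf p L : Subgroup H) : Set H) ≤ Subgroup.normalizer ((Subgroup.centralizer ((largestPReducedOf p L : Subgroup H) : Set H) : Subgroup H) : Set H) :=
    sup_le (hLY.trans hNC) Subgroup.le_normalizer
  have hMNC : M ≤ Subgroup.normalizer ((Subgroup.centralizer ((largestPReducedOf p L : Subgroup H) : Set H) : Subgroup H) : Set H) := by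
    have h : M ≤ M ⊔ Subgroup.centralizer ((largestPReducedOf p L : Subgroup H) : Set H) := le_sup_left
    rw [hfac] at h
    exact h.trans hLC
  have hTLs : (T : Subgroup H) ≤ Ls := by rw [hLs]; exact le_inf hTM hTNT₀
  have hLsM : Ls ≤ M := by rw [hLs]; exact inf_le_left
  have hLsN : Ls ≤ Subgroup.normalizer (T₀ : Set H) := by rw [hLs]; exact inf_le_right
  have hT₀Ls : T₀ ≤ Ls := hT₀T.trans hTLs
  have hYLs : largestPReducedOf p L ≤ Ls := hYT.trans hTLs
  have hYM : largestPReducedOf p L ≤ M := hYT.trans hTM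
  have hMLs : M ≤ Ls ⊔ Subgroup.centralizer ((largestPReducedOf p L : Subgroup H) : Set H) := by
    intro m hm
    obtain ⟨a, ha, c, hc, rfl⟩ := gl_frattini_ambient T M (Subgroup.centralizer ((largestPReducedOf p L : Subgroup H) : Set H)) hTM hMNC m hm
    rw [← hT₀, ← hLs] at ha
    exact Subgroup.mul_mem _ (Subgroup.mem_sup_left ha) (Subgroup.mem_sup_right hc)
  have hsup : L ⊔ Subgroup.centralizer ((largestPReducedOf p L : Subgroup H) : Set H) = Ls ⊔ Subgroup.centralizer ((largestPReducedOf p L : Subgroup H) : Set H) := by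
    apply le_antisymm
    · rw [← hfac]; exact sup_le hMLs le_sup_right
    · rw [← hfac]; exact sup_le_sup_right hLsM _
  have h1 : largestPReducedOf p L ≤ largestPReducedOf p Ls :=
    pr_largestOf_le_of_sup_eq Ls L hL hYLs hsup.symm
  have hredLs : IsPReducedNormal p ((largestPReducedOf p L).subgroupOf Ls) :=
    pr_transfer Ls L (largestPReduced p ↥L) hYL' hYLs (le_sup_left.trans hsup.ge)
      (le_sup_left.trans hsup.le)
  have hredM : IsPReducedNormal p ((largestPReducedOf p L).subgroupOf M) :=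
    pr_transfer M L (largestPReduced p ↥L) hYL' hYM (le_sup_left.trans hfac.le)
      (le_sup_left.trans hfac.ge)
  have hT₀p : IsPGroup p ↥T₀ := T.isPGroup'.to_le hT₀T
  have hQLs : pCoreOf p Ls = T₀ := by
    apply le_antisymm
    · intro q hq
      rw [hT₀]
      exact Subgroup.mem_inf.2 ⟨gl_pCoreOf_le_sylow T Ls hTLs hq,
        pr_pCoreOf_le_centralizer_of_reduced Ls _ hredLs hYLs hq⟩
    · exact pc_le_pCoreOf hT₀Ls hLsN hT₀p
  have hQM : pCoreOf p M ≤ pCoreOf p Ls := by
    rw [hQLs]
    intro q hq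
    rw [hT₀]
    exact Subgroup.mem_inf.2 ⟨gl_pCoreOf_le_sylow T M hTM hq,
      pr_pCoreOf_le_centralizer_of_reduced M _ hredM hYM hq⟩
  have hLschar : Subgroup.centralizer (pCore p ↥Ls : Set ↥Ls) ≤ pCore p ↥Ls := by
    apply pc_charp_of_ambient
    intro c hc hcc
    exact hQM (pc_charp_ambient hM (hLsM hc) (fun q hq => hcc q (hQM hq)))
  have h2 : largestPReducedOf p Ls ≤ largestPReducedOf p L := by
    have h3 := pr_largestOf_le_zomega Ls hLschar
    rw [hQLs] at h3
    have h4 := pr_largestOf_eq_zomega T L hTL hL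
    rw [← hT₀] at h4
    rw [h4]
    exact h3
  exact ⟨le_antisymm h2 h1, hsup⟩

end Cfsg.Agent.Lib.Helper6
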