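import Cfsg.Agent.Lib.Helper6.FixedPts

set_option autoImplicit false
set_option linter.style.haveILetI false

namespace Cfsg.Agent.Lib.Helper6

open Subgroup Equiv

theorem ps_not_sq_dvd_factorial {p : ℕ} (hp : p.Prime) :
    ∀ n, n < 2 * p → ¬ p ^ 2 ∣ n.factorial := by
  intro n
  induction n with
  | zero =>
    intro _ h
    have h1 := Nat.le_of_dvd (by norm_num) h
    have h2 := hp.two_le
    simp at h1
    nlinarith
  | succ n ih =>
    intro hn h
    rw [Nat.factorial_succ] at h
    by_cases hd : p ∣ n + 1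
    · obtain ⟨c, hc⟩ := hd
      have hc1 : c = 1 := by
        have h2 : c < 2 := by
          by_contra h2
          have : 2 ≤ c := by omega
          nlinarith
        have h3 : c ≠ 0 := by
          rintro rfl
          omega
        omega
      rw [hc, hc1, mul_one, pow_two] at h
      have h2 : p ∣ n.factorial := Nat.dvd_of_mul_dvd_mul_left hp.pos h
      have h3 := hp.dvd_factorial.mp h2
      rw [hc1, mul_one] at hc
      omega
    · have hcop : Nat.Coprime (p ^ 2) (n + 1) :=
        Nat.Coprime.pow_left 2 ((Nat.Prime.coprime_iff_not_dvd hp).mpr hd)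
      exact ih (by omega) (hcop.dvd_of_dvd_mul_left h)

section

variable {α : Type*} [Fintype α] [DecidableEq α]

theorem ps_card_sylow {p : ℕ} [Fact p.Prime] (h1 : p ≤ Fintype.card α)
    (h2 : Fintype.card α < 2 * p) (P : Sylow p (Perm α)) :
    Nat.card (P : Subgroup (Perm α)) = p := by
  have hp : p.Prime := Fact.out
  have hcard : Nat.card (Perm α) = (Fintype.card α).factorial := by
    rw [Nat.card_eq_fintype_card, Fintype.card_perm]
  obtain ⟨m, hm⟩ := (hp.dvd_factorial).mpr h1
  have := sy_card_eq P 1 m (by rw [hcard, hm]; ring) (by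
    intro h
    apply ps_not_sq_dvd_factorial hp _ h2
    rw [hm, pow_two]
    exact mul_dvd_mul_left p h)
  simpa using this

theorem ps_cycleType {p : ℕ} [Fact p.Prime] (h2 : Fintype.card α < 2 * p) (g : Perm α)
    (hg : orderOf g = p) : g.cycleType = {p} := by
  have hp : p.Prime := Fact.out
  obtain ⟨k, hk⟩ := Perm.cycleType_prime_order (σ := g) (by rw [hg]; exact hp)
  rw [hg] at hk
  have hs := Perm.sum_cycleType_le g
  rw [hk, Multiset.sum_replicate, smul_eq_mul] at hs
  have hk0 : k = 0 := by
    by_contra hne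
    have : 2 ≤ k + 1 := by omega
    nlinarith
  rw [hk, hk0]
  rfl

theorem ps_card_centralizer {p : ℕ} [Fact p.Prime] (h2 : Fintype.card α < 2 * p) (g : Perm α)
    (hg : orderOf g = p) :
    Nat.card (centralizer ({g} : Set (Perm α))) = (Fintype.card α - p).factorial * p := by
  rw [Perm.nat_card_centralizer, ps_cycleType h2 g hg]
  simp

theorem ps_card_normalizer {p : ℕ} [Fact p.Prime] (h1 : p ≤ Fintype.card α)
    (h2 : Fintype.card α < 2 * p) (P : Sylow p (Perm α)) :
    Nat.card (normalizer ((P : Subgroup (Perm α)) : Set (Perm α))) =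
      p * (p - 1) * (Fintype.card α - p).factorial := by
  have hp : p.Prime := Fact.out
  have hPc := ps_card_sylow h1 h2 P
  obtain ⟨g, hg⟩ := exists_prime_orderOf_dvd_card' p
    (by rw [hPc] : p ∣ Nat.card (P : Subgroup (Perm α)))
  have hg' : orderOf (g : Perm α) = p := by rw [Subgroup.orderOf_coe]; exact hg
  have hg1 : (g : Perm α) ≠ 1 := by
    intro h
    rw [h, orderOf_one] at hg'
    exact hp.ne_one hg'.symm
  have hPz := sc_zpowers_eq hp (P : Subgroup (Perm α)) hPc (g : Perm α) g.2 hg1
  have hN : Nat.card (normalizer ((P : Subgroup (Perm α)) : Set (Perm α))) =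
      Nat.card {σ : Perm α // σ * (g : Perm α) * σ⁻¹ ∈ (P : Subgroup (Perm α))} := by
    apply Nat.card_congr
    apply Equiv.subtypeEquivRight
    intro σ
    constructor
    · intro hσ
      exact gl_mem_normalizer_conj hσ g.2
    · intro hσ
      apply sy_mem_normalizer_of_conj_le
      intro h hh
      rw [← hPz] at hh
      obtain ⟨k, rfl⟩ := Subgroup.mem_zpowers_iff.mp hh
      rw [fp_conj_zpow]
      exact Subgroup.zpow_mem _ hσ k
  rw [hN, cc_card_conj_into, ps_card_centralizer h2 _ hg']
  have hcl : Nat.card {y : Perm α // IsConj (g : Perm α) y ∧ y ∈ (P : Subgroup (Perm α))} = p - 1 := by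
    have e : p - 1 = Nat.card {x : (P : Subgroup (Perm α)) // x ≠ 1} := by rw [sc_card_ne_one, hPc]
    rw [e]
    apply Nat.card_congr
    refine ⟨fun y => ⟨⟨y.1, y.2.2⟩, ?_⟩, fun x => ⟨x.1.1, ?_, x.1.2⟩, ?_, ?_⟩
    · intro h
      have hy1 : y.1 = 1 := congrArg Subtype.val h
      have := y.2.1
      rw [hy1] at this
      exact hg1 (isConj_one_left.mp this)
    · rw [Perm.isConj_iff_cycleType_eq, ps_cycleType h2 _ hg',
        ps_cycleType h2 _ (sc_order_of_mem hp _ hPc x.1.1 x.1.2 (fun h => x.2 (Subtype.ext h)))]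
    · intro y; rfl
    · intro x; rfl
  rw [hcl]
  ring

theorem ps_card_normalizer' (p : ℕ) [Fact p.Prime]
    (hα : Fintype.card α = p ∨ Fintype.card α = p + 1) (P : Sylow p (Equiv.Perm α)) :
    Nat.card ↥(Subgroup.normalizer ((P : Subgroup (Equiv.Perm α)) : Set (Equiv.Perm α))) =
      p * (p - 1) := by
  have hp : p.Prime := Fact.out
  have h2 := hp.two_le
  rcases hα with h | h
  · rw [ps_card_normalizer (by omega) (by omega) P, h]
    simp
  · rw [ps_card_normalizer (by omega) (by omega) P, h]
    simp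

end

end Cfsg.Agent.Lib.Helper6
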