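import Cfsg.Agent.Lib.Helper6.FixedPts

set_option autoImplicit false
set_option linter.style.haveILetI false

namespace Cfsg.Agent.Lib.Helper6

open Subgroup

section

variable {H α : Type*} [Group H] [Finite H] [Fintype α] [MulAction H α]

theorem pd_card_dvd_factorial [FaithfulSMul H α] : Nat.card H ∣ (Fintype.card α).factorial := by
  classical
  have hinj : Function.Injective (MulAction.toPermHom H α) := MulAction.toPerm_injective
  have h1 : Nat.card (MulAction.toPermHom H α).range = Nat.card H :=
    (Nat.card_congr (MonoidHom.ofInjective hinj).toEquiv).symm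
  rw [← h1, ← Fintype.card_perm, ← Nat.card_eq_fintype_card]
  exact Subgroup.card_subgroup_dvd_card _

theorem pd_orbit_smul (K : Subgroup H) [K.Normal] (g : H) (a : α) :
    MulAction.orbit K (g • a) = (fun x => g • x) '' MulAction.orbit K a := by
  ext y
  constructor
  · rintro ⟨k, rfl⟩
    refine ⟨(g⁻¹ * (k : H) * g) • a, ⟨⟨g⁻¹ * k * g, ?_⟩, rfl⟩, ?_⟩
    · have := ‹K.Normal›.conj_mem k k.2 g⁻¹
      simpa using this
    · show g • ((g⁻¹ * (k : H) * g) • a) = (k : H) • (g • a)
      rw [smul_smul, smul_smul]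
      congr 1
      group
  · rintro ⟨x, ⟨k, rfl⟩, rfl⟩
    refine ⟨⟨g * k * g⁻¹, ‹K.Normal›.conj_mem k k.2 g⟩, ?_⟩
    show (g * (k : H) * g⁻¹) • (g • a) = g • ((k : H) • a)
    rw [smul_smul, smul_smul]
    congr 1
    group

theorem pd_card_orbit_smul (K : Subgroup H) [K.Normal] (g : H) (a : α) :
    Nat.card (MulAction.orbit K (g • a)) = Nat.card (MulAction.orbit K a) := by
  rw [pd_orbit_smul]
  exact Nat.card_image_of_injective (MulAction.injective g) _

theorem pd_index_stabilizer [FaithfulSMul H α] [MulAction.IsPretransitive H α]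
    (hp : (Fintype.card α).Prime) (K : Subgroup H) [K.Normal] (hK : K ≠ ⊥) (a : α) :
    (MulAction.stabilizer K a).index = Fintype.card α := by
  obtain ⟨k, hk1⟩ := (Subgroup.ne_bot_iff_exists_ne_one (H := K)).mp hK
  have hmoved : ∃ a₀ : α, (k : H) • a₀ ≠ a₀ := by
    by_contra hall
    apply hk1
    apply Subtype.ext
    apply FaithfulSMul.eq_of_smul_eq_smul (α := α)
    intro b
    have : ¬ (k : H) • b ≠ b := fun h => hall ⟨b, h⟩
    rw [Subgroup.coe_one, one_smul]
    exact not_not.mp this
  obtain ⟨a₀, ha₀⟩ := hmoved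
  have hd : ∀ b : α, Nat.card (MulAction.orbit K b) = Nat.card (MulAction.orbit K a₀) := by
    intro b
    obtain ⟨g, rfl⟩ := MulAction.exists_smul_eq H a₀ b
    exact pd_card_orbit_smul K g a₀
  have hdvd : Nat.card (MulAction.orbit K a₀) ∣ Nat.card α :=
    orb_dvd_card (K := K) (X := α) _ (fun x => by rw [hd x])
  rw [Nat.card_eq_fintype_card (α := α)] at hdvd
  have hne1 : Nat.card (MulAction.orbit K a₀) ≠ 1 := by
    intro h1
    have hsub := (Nat.card_eq_one_iff_unique.mp h1).1
    have : (⟨a₀, MulAction.mem_orbit_self a₀⟩ : MulAction.orbit K a₀) =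
        ⟨k • a₀, MulAction.mem_orbit a₀ k⟩ := Subsingleton.elim _ _
    exact ha₀ (congrArg Subtype.val this).symm
  rw [MulAction.index_stabilizer, ← Nat.card_coe_set_eq, hd a]
  exact ((Nat.dvd_prime hp).mp hdvd).resolve_left hne1

theorem pd_counting [FaithfulSMul H α] [MulAction.IsPretransitive H α] {p : ℕ} [Fact p.Prime]
    (hα : Fintype.card α = p) (K : Subgroup H) [K.Normal] (hK : K ≠ ⊥) (P : Sylow p H)
    (hPc : Nat.card (P : Subgroup H) = p) (hPK : (P : Subgroup H) ≤ K)
    (hKN : K ⊓ normalizer ((P : Subgroup H) : Set H) ≤ P) (hp2 : ¬ p ^ 2 ∣ Nat.card H) :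
    (P : Subgroup H) = K := by
  classical
  have hp : p.Prime := Fact.out
  have hpα : (Fintype.card α).Prime := by rw [hα]; exact hp
  have hP'c0 : Nat.card ((P.subtype hPK : Sylow p K) : Subgroup K) = p := by
    rw [Sylow.coe_subtype, sy_card_subgroupOf, inf_eq_left.mpr hPK, hPc]
  have hP'c : ∀ Q : Sylow p K, Nat.card (Q : Subgroup K) = p := by
    intro Q
    have h1 := Sylow.card_eq_multiplicity Q
    have h0 := Sylow.card_eq_multiplicity (P.subtype hPK)
    rw [h1, ← h0]
    exact hP'c0
  have hA := sc_card_order_p (G := K) p hP'c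
  have hnorm : normalizer (((P.subtype hPK : Sylow p K) : Subgroup K) : Set K) =
      ((P.subtype hPK : Sylow p K) : Subgroup K) := by
    rw [Sylow.coe_subtype, sy_normalizer_subgroupOf_eq _ _ hPK, Subgroup.subgroupOf_inj]
    apply le_antisymm
    · exact le_inf (by rw [inf_comm]; exact hKN) inf_le_right
    · exact inf_le_inf_right K le_normalizer
  have hnp : Nat.card (Sylow p K) = ((P.subtype hPK : Sylow p K) : Subgroup K).index := by
    have h1 : Nat.card (Sylow p K) =
        (normalizer (((P.subtype hPK : Sylow p K) : Subgroup K) : Set K)).index :=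
      Sylow.card_eq_index_normalizer (P.subtype hPK)
    rw [h1, hnorm]
  set m := ((P.subtype hPK : Sylow p K) : Subgroup K).index with hm
  have hmK : m * p = Nat.card K := by
    have := ((P.subtype hPK : Sylow p K) : Subgroup K).index_mul_card
    rw [hP'c0] at this
    exact this
  have hpm : ¬ p ∣ m := by
    intro h
    apply hp2
    have h1 : p ^ 2 ∣ Nat.card K := by
      rw [← hmK, pow_two]
      exact mul_dvd_mul_right h p
    exact h1.trans (Subgroup.card_subgroup_dvd_card K)
  rw [hnp] at hA
  have hX : Nat.card {k : K // ¬ orderOf k = p} = m := by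
    have h1 := Nat.card_congr (Equiv.sumCompl (fun k : K => orderOf k = p))
    rw [Nat.card_sum, hA, ← hmK] at h1
    obtain ⟨q, rfl⟩ : ∃ q, p = q + 1 := ⟨p - 1, by have := hp.pos; omega⟩
    rw [Nat.add_sub_cancel] at h1
    have e : m * (q + 1) = m * q + m := by ring
    omega
  have hScard : ∀ b : α, Nat.card (MulAction.stabilizer K b) = m := by
    intro b
    have h1 := pd_index_stabilizer hpα K hK b
    have h2 := (MulAction.stabilizer K b).index_mul_card
    rw [h1, hα, ← hmK, mul_comm] at h2
    exact Nat.eq_of_mul_eq_mul_right hp.pos h2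
  have hSord : ∀ (b : α) (s : K), s ∈ MulAction.stabilizer K b → ¬ orderOf s = p := by
    intro b s hs h
    apply hpm
    rw [← hScard b, ← h]
    exact Subgroup.orderOf_dvd_natCard _ hs
  have hall : ∀ (b : α) (k : K), ¬ orderOf k = p → k ∈ MulAction.stabilizer K b := by
    intro b k hk
    have hbij : Function.Bijective
        (fun s : MulAction.stabilizer K b => (⟨s.1, hSord b s.1 s.2⟩ : {k : K // ¬ orderOf k = p})) := by
      rw [Nat.bijective_iff_injective_and_card]
      refine ⟨?_, by rw [hScard b, hX]⟩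
      intro s t hst
      apply Subtype.ext
      exact congrArg (fun z : {k : K // ¬ orderOf k = p} => z.1) hst
    obtain ⟨s, hs⟩ := hbij.2 ⟨k, hk⟩
    have : s.1 = k := congrArg (fun z : {k : K // ¬ orderOf k = p} => z.1) hs
    rw [← this]
    exact s.2
  obtain ⟨a⟩ : Nonempty α := Fintype.card_pos_iff.mp (by rw [hα]; exact hp.pos)
  have hSbot : MulAction.stabilizer K a = ⊥ := by
    rw [eq_bot_iff]
    intro s hs
    rw [Subgroup.mem_bot]
    apply Subtype.ext
    apply FaithfulSMul.eq_of_smul_eq_smul (α := α)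
    intro b
    have := hall b s (hSord a s hs)
    rw [Subgroup.coe_one, one_smul]
    exact this
  have hm1 : m = 1 := by
    rw [← hScard a, hSbot, Subgroup.card_bot]
  apply Subgroup.eq_of_le_of_card_ge hPK
  rw [← hmK, hm1, one_mul, hPc]

theorem pd_simple [FaithfulSMul H α] [MulAction.IsPretransitive H α] {p : ℕ} [Fact p.Prime]
    (hα : Fintype.card α = p) (P : Sylow p H) (hn : 1 < Nat.card (Sylow p H))
    (ht : (((P : Subgroup H).subgroupOf (normalizer ((P : Subgroup H) : Set H))).index).Prime) :
    IsSimpleGroup H := by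
  have hp : p.Prime := Fact.out
  have hpα : (Fintype.card α).Prime := by rw [hα]; exact hp
  obtain ⟨a⟩ : Nonempty α := Fintype.card_pos_iff.mp (by rw [hα]; exact hp.pos)
  have hdvd : p ∣ Nat.card H := by
    have := MulAction.index_stabilizer_of_transitive H a
    rw [Nat.card_eq_fintype_card, hα] at this
    rw [← this]
    exact Subgroup.index_dvd_card _
  have hp2 : ¬ p ^ 2 ∣ Nat.card H := by
    intro h
    have h1 := h.trans (pd_card_dvd_factorial (H := H) (α := α))
    rw [hα] at h1
    obtain ⟨q, hq⟩ : ∃ q, p = q + 1 := ⟨p - 1, by have := hp.pos; omega⟩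
    rw [hq, Nat.factorial_succ, pow_two] at h1
    have h2 : (q + 1) ∣ q.factorial := Nat.dvd_of_mul_dvd_mul_left (by omega) h1
    rw [← hq] at h2
    have := (hp.dvd_factorial).mp h2
    omega
  have hPc : Nat.card (P : Subgroup H) = p := by
    obtain ⟨m, hm⟩ := hdvd
    have := sy_card_eq P 1 m (by rw [hm]; ring)
      (by
        intro h
        apply hp2
        rw [hm, pow_two]
        exact mul_dvd_mul_left p h)
    simpa using this
  haveI : Nontrivial H := by
    apply Finite.one_lt_card_iff_nontrivial.mp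
    have := Nat.le_of_dvd Nat.card_pos hdvd
    have := hp.two_le
    omega
  refine ⟨fun K hK => ?_⟩
  haveI := hK
  by_cases hbot : K = ⊥
  · exact Or.inl hbot
  right
  have hidx := pd_index_stabilizer hpα K hbot a
  have hpK : p ∣ Nat.card K := by
    rw [← hα, ← hidx]
    exact Subgroup.index_dvd_card _
  have hPK : (P : Subgroup H) ≤ K := by
    obtain ⟨y, hy⟩ := exists_prime_orderOf_dvd_card' p hpK
    have hy' : orderOf (y : H) = p := by rw [Subgroup.orderOf_coe]; exact hy
    have hyp : IsPGroup p (zpowers (y : H)) :=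
      sy_isPGroup_zpowers _ 1 (by rw [pow_one, ← hy', pow_orderOf_eq_one])
    obtain ⟨Q, hQ⟩ := hyp.exists_le_sylow
    have hQc : Nat.card (Q : Subgroup H) = p := by
      have h1 := Sylow.card_eq_multiplicity Q
      have h0 := Sylow.card_eq_multiplicity P
      rw [h1, ← h0]
      exact hPc
    have hQz : zpowers (y : H) = Q :=
      Subgroup.eq_of_le_of_card_ge hQ (by rw [Nat.card_zpowers, hy', hQc])
    obtain ⟨g, rfl⟩ := MulAction.exists_smul_eq H Q P
    intro x hx
    have h1 := (sy_mem_smul_iff g Q x).mp hx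
    rw [← hQz] at h1
    have h2 : g⁻¹ * x * g ∈ K := (zpowers_le.mpr y.2) h1
    have h3 := hK.conj_mem _ h2 g
    have e : g * (g⁻¹ * x * g) * g⁻¹ = x := by group
    rwa [e] at h3
  have hsup : normalizer ((P : Subgroup H) : Set H) ⊔ K = ⊤ := Sylow.normalizer_sup_eq_top' P hPK
  set N := normalizer ((P : Subgroup H) : Set H) with hN
  have hPN : (P : Subgroup H) ≤ N := le_normalizer
  have hmul := Subgroup.relIndex_mul_relIndex (H := (P : Subgroup H)) (K := K ⊓ N) (L := N)
    (le_inf hPK hPN) inf_le_right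
  have hrel : (P : Subgroup H).relIndex N = ((P : Subgroup H).subgroupOf N).index := rfl
  rw [hrel] at hmul
  rw [← hmul] at ht
  rcases Nat.prime_mul_iff.mp ht with ⟨_, hb⟩ | ⟨_, ha⟩
  · have h1 : N ≤ K ⊓ N := Subgroup.relIndex_eq_one.mp hb
    have h2 : N ≤ K := h1.trans inf_le_left
    rw [← hsup]
    exact (sup_eq_right.mpr h2).symm
  · exfalso
    have h1 : K ⊓ N ≤ (P : Subgroup H) := Subgroup.relIndex_eq_one.mp ha
    have h2 := pd_counting hα K hbot P hPc hPK h1 hp2
    have h3 : (P : Subgroup H).Normal := by rw [h2]; exact hK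
    haveI := Sylow.unique_of_normal P h3
    have := Nat.card_unique (α := Sylow p H)
    omega

end

end Cfsg.Agent.Lib.Helper6
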