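import Mathlib
import Cfsg.Prelude.Def_PLocal

set_option autoImplicit false

namespace Cfsg.Agent.Lib.Helper6

section QdFree

open Matrix

/-- Every `p`-subgroup is commutative. -/
def qfPAb (p : ℕ) (G : Type*) [Group G] : Prop :=
  ∀ Q : Subgroup G, IsPGroup p Q → ∀ a ∈ Q, ∀ b ∈ Q, a * b = b * a

theorem qf_surj {p : ℕ} [Fact p.Prime] {G H : Type*} [Group G] [Group H] [Finite G]
    (f : G →* H) (hf : Function.Surjective f) (h : qfPAb p G) : qfPAb p H := by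
  intro Q hQ a ha b hb
  obtain ⟨S, hS⟩ := hQ.exists_le_sylow
  obtain ⟨P, hP⟩ := Sylow.mapSurjective_surjective hf p S
  have hP' : (P : Subgroup G).map f = S := by
    rw [← hP]; rfl
  have ha' : a ∈ (P : Subgroup G).map f := hP' ▸ hS ha
  have hb' : b ∈ (P : Subgroup G).map f := hP' ▸ hS hb
  obtain ⟨a', ha'P, rfl⟩ := ha'
  obtain ⟨b', hb'P, rfl⟩ := hb'
  rw [← map_mul, ← map_mul, h P P.2 a' ha'P b' hb'P]

theorem qf_inj {p : ℕ} [Fact p.Prime] {G H : Type*} [Group G] [Group H]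
    (f : G →* H) (hf : Function.Injective f) (h : qfPAb p H) : qfPAb p G := by
  intro Q hQ a ha b hb
  apply hf
  rw [map_mul, map_mul]
  exact h (Q.map f) (hQ.map f) (f a) (Subgroup.mem_map_of_mem f ha) (f b)
    (Subgroup.mem_map_of_mem f hb)

theorem qf_param {K : Type*} [Field K] (a b c d t : K) (h1 : a + b * t = 1)
    (h2 : c + d * t = t) (h3 : a * d - b * c = 1) :
    a = 1 - b * t ∧ d = 1 + b * t ∧ c = -b * t ^ 2 := by
  have hd : d = 1 + b * t := by linear_combination h3 - d * h1 + b * h2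
  refine ⟨by linear_combination h1, hd, ?_⟩
  linear_combination h2 - t * hd

theorem qf_comm {K : Type*} [Field K] (A B : Matrix (Fin 2) (Fin 2) K) (v : Fin 2 → K)
    (hv : v ≠ 0) (hA : A.mulVec v = v) (hB : B.mulVec v = v) (hdA : A.det = 1)
    (hdB : B.det = 1) : A * B = B * A := by
  have h1 := congrFun hA 0
  have h2 := congrFun hA 1
  have h3 := congrFun hB 0
  have h4 := congrFun hB 1
  simp only [Matrix.mulVec, dotProduct, Fin.sum_univ_two] at h1 h2 h3 h4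
  rw [Matrix.det_fin_two] at hdA hdB
  by_cases hv0 : v 0 = 0
  · have hv1 : v 1 ≠ 0 := by
      intro h
      apply hv
      ext i
      fin_cases i
      · exact hv0
      · exact h
    obtain ⟨t, ht⟩ : ∃ t, t = v 0 / v 1 := ⟨_, rfl⟩
    have hvt : v 0 = t * v 1 := by rw [ht]; field_simp
    rw [hvt] at h1 h2 h3 h4
    have e1 : A 1 1 + A 1 0 * t = 1 := by
      apply mul_right_cancel₀ hv1; linear_combination h2
    have e2 : A 0 1 + A 0 0 * t = t := by
      apply mul_right_cancel₀ hv1; linear_combination h1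
    have e3 : B 1 1 + B 1 0 * t = 1 := by
      apply mul_right_cancel₀ hv1; linear_combination h4
    have e4 : B 0 1 + B 0 0 * t = t := by
      apply mul_right_cancel₀ hv1; linear_combination h3
    obtain ⟨a1, a2, a3⟩ := qf_param (A 1 1) (A 1 0) (A 0 1) (A 0 0) t e1 e2
      (by linear_combination hdA)
    obtain ⟨b1, b2, b3⟩ := qf_param (B 1 1) (B 1 0) (B 0 1) (B 0 0) t e3 e4
      (by linear_combination hdB)
    ext i j
    fin_cases i <;> fin_cases j <;>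
      simp only [Matrix.mul_apply, Fin.sum_univ_two, Fin.zero_eta, Fin.mk_one, a1, a2, a3, b1, b2,
        b3] <;> ring
  · obtain ⟨t, ht⟩ : ∃ t, t = v 1 / v 0 := ⟨_, rfl⟩
    have hvt : v 1 = t * v 0 := by rw [ht]; field_simp
    rw [hvt] at h1 h2 h3 h4
    have e1 : A 0 0 + A 0 1 * t = 1 := by
      apply mul_right_cancel₀ hv0; linear_combination h1
    have e2 : A 1 0 + A 1 1 * t = t := by
      apply mul_right_cancel₀ hv0; linear_combination h2
    have e3 : B 0 0 + B 0 1 * t = 1 := by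
      apply mul_right_cancel₀ hv0; linear_combination h3
    have e4 : B 1 0 + B 1 1 * t = t := by
      apply mul_right_cancel₀ hv0; linear_combination h4
    obtain ⟨a1, a2, a3⟩ := qf_param (A 0 0) (A 0 1) (A 1 0) (A 1 1) t e1 e2
      (by linear_combination hdA)
    obtain ⟨b1, b2, b3⟩ := qf_param (B 0 0) (B 0 1) (B 1 0) (B 1 1) t e3 e4
      (by linear_combination hdB)
    ext i j
    fin_cases i <;> fin_cases j <;>
      simp only [Matrix.mul_apply, Fin.sum_univ_two, Fin.zero_eta, Fin.mk_one, a1, a2, a3, b1, b2,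
        b3] <;> ring

theorem qf_sl2 {p : ℕ} [Fact p.Prime] {K : Type*} [Field K] [Fintype K] [CharP K p] :
    qfPAb p (Matrix.SpecialLinearGroup (Fin 2) K) := by
  classical
  intro Q hQ a ha b hb
  letI : MulAction Q (Fin 2 → K) :=
    { smul := fun g v => (g.1.1 : Matrix (Fin 2) (Fin 2) K).mulVec v
      one_smul := fun v => by
        show ((1 : Q).1.1 : Matrix (Fin 2) (Fin 2) K).mulVec v = v
        simp
      mul_smul := fun g h v => by
        show ((g.1.1 : Matrix (Fin 2) (Fin 2) K) * h.1.1).mulVec v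
          = (g.1.1 : Matrix (Fin 2) (Fin 2) K).mulVec ((h.1.1 : Matrix (Fin 2) (Fin 2) K).mulVec v)
        rw [Matrix.mulVec_mulVec] }
  have hdvd : p ∣ Nat.card (Fin 2 → K) := by
    have h1 : p ∣ Fintype.card K := by
      have := Nat.cast_card_eq_zero K
      exact (CharP.cast_eq_zero_iff K p _).1 this
    rw [Nat.card_eq_fintype_card, Fintype.card_fun, Fintype.card_fin]
    exact dvd_pow h1 (by norm_num)
  have h0 : (0 : Fin 2 → K) ∈ MulAction.fixedPoints Q (Fin 2 → K) := by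
    intro g
    show (g.1.1 : Matrix (Fin 2) (Fin 2) K).mulVec 0 = 0
    simp
  obtain ⟨v, hv, hv0⟩ := hQ.exists_fixed_point_of_prime_dvd_card_of_fixed_point
    (α := Fin 2 → K) hdvd h0
  have hfix : ∀ g : Matrix.SpecialLinearGroup (Fin 2) K, g ∈ Q →
      (g.1 : Matrix (Fin 2) (Fin 2) K).mulVec v = v := fun g hg => hv ⟨g, hg⟩
  apply Subtype.ext
  exact qf_comm a.1 b.1 v (Ne.symm hv0) (hfix a ha) (hfix b hb) a.2 b.2

theorem qf_pow {p : ℕ} [Fact p.Prime] (hp : p ≠ 2) (M : Matrix (Fin 3) (Fin 3) (ZMod p))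
    (h : M 1 0 = 0 ∧ M 2 0 = 0 ∧ M 2 1 = 0 ∧ M 0 0 = 1 ∧ M 1 1 = 1 ∧ M 2 2 = 1) :
    M ^ p = 1 := by
  obtain ⟨h10, h20, h21, h00, h11, h22⟩ := h
  have h3 : (M - 1) ^ 3 = 0 := by
    ext i j
    fin_cases i <;> fin_cases j <;>
      simp [pow_three, Matrix.mul_apply, Fin.sum_univ_three, h10, h20, h21, h00, h11, h22]
  have hp3 : 3 ≤ p := by
    have := (Fact.out : p.Prime).two_le
    omega
  obtain ⟨k, hk⟩ : ∃ k, p = 3 + k := ⟨p - 3, by omega⟩
  have h4 : (M - 1) ^ p = 0 := by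
    have h5 := congrArg (fun n : ℕ => (M - 1) ^ n) hk
    replace h5 : (M - 1) ^ p = (M - 1) ^ (3 + k) := h5
    rw [h5, pow_add, h3, zero_mul]
  rw [sub_pow_char_of_commute p (Commute.one_right M), one_pow] at h4
  exact sub_eq_zero.1 h4

theorem qf_mul {p : ℕ} (M N : Matrix (Fin 3) (Fin 3) (ZMod p))
    (hM : M 1 0 = 0 ∧ M 2 0 = 0 ∧ M 2 1 = 0 ∧ M 0 0 = 1 ∧ M 1 1 = 1 ∧ M 2 2 = 1)
    (hN : N 1 0 = 0 ∧ N 2 0 = 0 ∧ N 2 1 = 0 ∧ N 0 0 = 1 ∧ N 1 1 = 1 ∧ N 2 2 = 1) :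
    (M * N) 1 0 = 0 ∧ (M * N) 2 0 = 0 ∧ (M * N) 2 1 = 0 ∧ (M * N) 0 0 = 1 ∧ (M * N) 1 1 = 1 ∧
      (M * N) 2 2 = 1 := by
  obtain ⟨h10, h20, h21, h00, h11, h22⟩ := hM
  obtain ⟨k10, k20, k21, k00, k11, k22⟩ := hN
  refine ⟨?_, ?_, ?_, ?_, ?_, ?_⟩ <;>
    simp [Matrix.mul_apply, Fin.sum_univ_three, h10, h20, h21, h00, h11, h22, k10, k20, k21,
      k00, k11, k22]

/-- Upper unitriangular matrices in `SL₃(p)`. -/
def qfT (p : ℕ) [Fact p.Prime] (hp : p ≠ 2) :
    Subgroup (Matrix.SpecialLinearGroup (Fin 3) (ZMod p)) where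
  carrier := {M | M.1 1 0 = 0 ∧ M.1 2 0 = 0 ∧ M.1 2 1 = 0 ∧ M.1 0 0 = 1 ∧ M.1 1 1 = 1 ∧
    M.1 2 2 = 1}
  mul_mem' := by
    rintro M N hM hN
    exact qf_mul M.1 N.1 hM hN
  one_mem' := by simp
  inv_mem' := by
    intro M hM
    have hpow : M ^ p = 1 := by
      apply Subtype.ext
      simpa using qf_pow hp M.1 hM
    have hinv : M⁻¹ = M ^ (p - 1) := by
      apply inv_eq_of_mul_eq_one_right
      rw [← pow_succ', Nat.sub_add_cancel (Fact.out : p.Prime).one_le, hpow]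
    rw [hinv]
    clear hinv hpow
    induction (p - 1) with
    | zero => simp
    | succ n ih =>
      rw [pow_succ]
      exact qf_mul (M ^ n).1 M.1 ih hM

theorem qf_qd {p : ℕ} [Fact p.Prime] (hp : p ≠ 2) : ¬ qfPAb p ↥(Cfsg.qd p) := by
  intro h
  have hT : IsPGroup p (qfT p hp) := by
    intro g
    refine ⟨1, ?_⟩
    rw [pow_one]
    apply Subtype.ext
    apply Subtype.ext
    simpa using qf_pow hp g.1.1 g.2
  have hT' : IsPGroup p ((qfT p hp).subgroupOf (Cfsg.qd p)) := hT.comap_subtype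
  obtain ⟨x, hx⟩ : ∃ x : Matrix.SpecialLinearGroup (Fin 3) (ZMod p),
      x.1 = !![1, 1, 0; 0, 1, 0; 0, 0, 1] :=
    ⟨⟨!![1, 1, 0; 0, 1, 0; 0, 0, 1], by simp [Matrix.det_fin_three]⟩, rfl⟩
  obtain ⟨y, hy⟩ : ∃ y : Matrix.SpecialLinearGroup (Fin 3) (ZMod p),
      y.1 = !![1, 0, 0; 0, 1, 1; 0, 0, 1] :=
    ⟨⟨!![1, 0, 0; 0, 1, 1; 0, 0, 1], by simp [Matrix.det_fin_three]⟩, rfl⟩
  have hxq : x ∈ Cfsg.qd p := Subgroup.subset_closure (by simp [hx])
  have hyq : y ∈ Cfsg.qd p := Subgroup.subset_closure (by simp [hy])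
  have hxT : x ∈ qfT p hp := by
    show _ ∧ _ ∧ _ ∧ _ ∧ _ ∧ _
    simp [hx]
  have hyT : y ∈ qfT p hp := by
    show _ ∧ _ ∧ _ ∧ _ ∧ _ ∧ _
    simp [hy]
  have key := h ((qfT p hp).subgroupOf (Cfsg.qd p)) hT' ⟨x, hxq⟩ hxT ⟨y, hyq⟩ hyT
  have key2 : x.1 * y.1 = y.1 * x.1 := by
    have := congrArg (fun z : ↥(Cfsg.qd p) => (z.1.1 : Matrix (Fin 3) (Fin 3) (ZMod p))) key
    simpa using this
  have key3 := congrFun (congrFun key2 0) 2
  rw [hx, hy] at key3
  simp [Matrix.mul_apply, Fin.sum_univ_three] at key3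

theorem qf_main {p : ℕ} [Fact p.Prime] (hp : p ≠ 2) {K : Type*} [Field K] [Fintype K]
    [CharP K p] (L R : Subgroup (Matrix.ProjectiveSpecialLinearGroup (Fin 2) K))
    [hn : (R.subgroupOf L).Normal] (e : L ⧸ R.subgroupOf L ≃* ↥(Cfsg.qd p)) : False := by
  classical
  have h1 := qf_sl2 (p := p) (K := K)
  have h2 : qfPAb p (Matrix.ProjectiveSpecialLinearGroup (Fin 2) K) :=
    qf_surj (QuotientGroup.mk' _) (QuotientGroup.mk'_surjective _) h1
  have h3 : qfPAb p L := qf_inj L.subtype L.subtype_injective h2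
  have h4 : qfPAb p (L ⧸ R.subgroupOf L) :=
    qf_surj (QuotientGroup.mk' _) (QuotientGroup.mk'_surjective _) h3
  have h5 : qfPAb p (Cfsg.qd p) := qf_inj e.symm.toMonoidHom e.symm.injective h4
  exact qf_qd hp h5

end QdFree

end Cfsg.Agent.Lib.Helper6
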