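import Cfsg.Agent.Lib.Helper6.PResidual

set_option autoImplicit false

namespace Cfsg.Agent.Lib.Helper6

open Cfsg

theorem gl_map_conj_inv {X : Type*} [Group X] (A : Subgroup X) (g : X) :
    (A.map (MulAut.conj g).toMonoidHom).map (MulAut.conj g⁻¹).toMonoidHom = A := by
  ext x
  simp only [Subgroup.mem_map, MulEquiv.coe_toMonoidHom, MulAut.conj_apply, exists_exists_and_eq_and]
  constructor
  · rintro ⟨a, ha, rfl⟩
    have : g⁻¹ * (g * a * g⁻¹) * g⁻¹⁻¹ = a := by group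
    rw [this]; exact ha
  · intro hx
    exact ⟨x, hx, by group⟩

theorem pr_scc_le_closure_conj {H : Type*} [Group H] {p : ℕ} [Fact p.Prime] (T : Sylow p H)
    (L : Subgroup H) [Finite L] (hTL : (T : Subgroup H) ≤ L) :
    sylowCenterClosure p L ≤ Subgroup.closure {x | ∃ l ∈ L, ∃ z₀ ∈
      omegaOne p ((T : Subgroup H) ⊓ Subgroup.centralizer ((T : Subgroup H) : Set H)),
      x = l * z₀ * l⁻¹} := by
  unfold sylowCenterClosure
  refine iSup_le fun S' => ?_
  obtain ⟨l, rfl⟩ := MulAction.exists_smul_eq L (T.subtype hTL) S'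
  have hT : ((T.subtype hTL : Sylow p ↥L) : Subgroup ↥L).map L.subtype = (T : Subgroup H) := by
    rw [Sylow.coe_subtype, Subgroup.subgroupOf_map_subtype]
    exact inf_eq_left.2 hTL
  rw [am_sylow_smul_map, hT]
  intro x hx
  apply Subgroup.subset_closure
  have h1 := am_zomega_conj p _ (l : H)⁻¹ x hx
  rw [gl_map_conj_inv] at h1
  exact ⟨l, l.2, _, h1, by group⟩

theorem pr_zomega_center_le_scc {H : Type*} [Group H] {p : ℕ} [Fact p.Prime] (T : Sylow p H)
    (L : Subgroup H) (hTL : (T : Subgroup H) ≤ L) :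
    omegaOne p (L ⊓ Subgroup.centralizer ((L : Subgroup H) : Set H)) ≤ sylowCenterClosure p L := by
  refine le_trans ?_ (am_zomega_sylow_le_scc T L hTL)
  unfold omegaOne
  apply Subgroup.closure_mono
  rintro x ⟨hx, hxp⟩
  obtain ⟨hxL, hxC⟩ := Subgroup.mem_inf.1 hx
  refine ⟨Subgroup.mem_inf.2 ⟨?_, Subgroup.centralizer_le hTL hxC⟩, hxp⟩
  apply gl_pCoreOf_le_sylow T L hTL
  have hn : (Subgroup.zpowers (⟨x, hxL⟩ : ↥L)).Normal := by
    constructor
    intro n hn g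
    have hc : g * (⟨x, hxL⟩ : ↥L) = (⟨x, hxL⟩ : ↥L) * g := by
      ext
      exact ((Subgroup.mem_centralizer_iff.1 hxC) g g.2)
    obtain ⟨k, rfl⟩ := Subgroup.mem_zpowers_iff.1 hn
    have hc' : Commute g ((⟨x, hxL⟩ : ↥L) ^ k) := Commute.zpow_right hc k
    have : g * (⟨x, hxL⟩ : ↥L) ^ k * g⁻¹ = (⟨x, hxL⟩ : ↥L) ^ k := by
      rw [hc'.eq]; group
    rw [this]
    exact Subgroup.zpow_mem_zpowers _ k
  have hpg : IsPGroup p ↥(Subgroup.zpowers (⟨x, hxL⟩ : ↥L)) := by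
    rintro ⟨y, hy⟩
    obtain ⟨k, rfl⟩ := Subgroup.mem_zpowers_iff.1 hy
    have hxp' : (⟨x, hxL⟩ : ↥L) ^ p = 1 := by
      ext; exact hxp
    have h4 : ((⟨x, hxL⟩ : ↥L) ^ k) ^ p = 1 := by
      rw [← zpow_natCast, ← zpow_mul, mul_comm, zpow_mul, zpow_natCast, hxp', one_zpow]
    refine ⟨1, ?_⟩
    rw [pow_one]
    exact Subtype.ext h4
  exact ⟨⟨x, hxL⟩, pc_le hn hpg (Subgroup.mem_zpowers _), rfl⟩

theorem pr_scc_decomp {H : Type*} [Group H] [Finite H] {p : ℕ} [Fact p.Prime] (T : Sylow p H)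
    (L : Subgroup H) (hTL : (T : Subgroup H) ≤ L)
    (hL : Subgroup.centralizer (pCore p ↥L : Set ↥L) ≤ pCore p ↥L) :
    sylowCenterClosure p L = omegaOne p (L ⊓ Subgroup.centralizer ((L : Subgroup H) : Set H)) ⊔
        ⁅sylowCenterClosure p L, (pResidual p ↥L).map L.subtype⁆ ∧
      ⁅sylowCenterClosure p L, L⁆ =
        ⁅sylowCenterClosure p L, (pResidual p ↥L).map L.subtype⁆ := by
  have hp : p.Prime := Fact.out
  have hmem : ∀ a ∈ sylowCenterClosure p L, a ∈ pCoreOf p L ∧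
      a ∈ Subgroup.centralizer (pCoreOf p L : Set H) ∧ a ^ p = 1 :=
    fun a ha => fr_omegaOne_center_mem p (pCoreOf p L) (pr_scc_le_zomega L hL ha)
  have hZab : ∀ a ∈ sylowCenterClosure p L, ∀ b ∈ sylowCenterClosure p L, a * b = b * a :=
    fun a ha b hb => ((Subgroup.mem_centralizer_iff.1 (hmem a ha).2.1) b (hmem b hb).1).symm
  have hZp : ∀ a ∈ sylowCenterClosure p L, a ^ p = 1 := fun a ha => (hmem a ha).2.2
  have hZL : sylowCenterClosure p L ≤ L := am_scc_le p L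
  have hLZ : L ≤ Subgroup.normalizer (sylowCenterClosure p L : Set H) := am_scc_normal p L
  have hRL : (pResidual p ↥L).map L.subtype ≤ L := Subgroup.map_subtype_le _
  have hLR : L ≤ Subgroup.normalizer (((pResidual p ↥L).map L.subtype : Subgroup H) : Set H) :=
    gl_le_normalizer_map_of_normal L _ (pres_normal p ↥L)
  have hZ₀Z := am_zomega_sylow_le_scc T L hTL
  have hTZ₀ : ∀ s ∈ (T : Subgroup H), ∀ z ∈ omegaOne p ((T : Subgroup H) ⊓
      Subgroup.centralizer ((T : Subgroup H) : Set H)), s * z = z * s := by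
    intro s hs z hz
    have := (fr_omegaOne_center_mem p (T : Subgroup H) hz).2.1
    exact ((Subgroup.mem_centralizer_iff.1 this) s hs)
  have hfac : ∀ l ∈ L, ∃ r ∈ (pResidual p ↥L).map L.subtype, ∃ s ∈ (T : Subgroup H),
      l = r * s := by
    intro l hl
    obtain ⟨r, hr, s, hs, e⟩ := pres_exists_mul (T.subtype hTL) (⟨l, hl⟩ : ↥L)
    refine ⟨r, ⟨r, hr, rfl⟩, s, ?_, ?_⟩
    · have hs' : s ∈ ((T.subtype hTL : Sylow p ↥L) : Subgroup ↥L) := hs
      rw [Sylow.coe_subtype, Subgroup.mem_subgroupOf] at hs'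
      exact hs'
    · have := congrArg Subtype.val e
      simpa using this
  have hgen := pr_scc_le_closure_conj T L hTL
  obtain ⟨h1, h2⟩ := gl_residual_decomp (sylowCenterClosure p L) _ _ (T : Subgroup H) L
    hZab hZL hLZ hRL hLR hZ₀Z hTZ₀ hfac hgen
  have hWZ : ⁅sylowCenterClosure p L, (pResidual p ↥L).map L.subtype⁆ ≤ sylowCenterClosure p L :=
    gl_commutator_le_of_le_normalizer (hRL.trans hLZ)
  have hcop : Nat.Coprime ((T : Subgroup H).relIndex L) p := by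
    have hnd : ¬ p ∣ (T : Subgroup H).relIndex L := fun hd =>
      T.not_dvd_index (hd.trans (Subgroup.relIndex_dvd_index_of_le hTL))
    exact ((Nat.Prime.coprime_iff_not_dvd hp).2 hnd).symm
  refine ⟨le_antisymm ?_ (sup_le (pr_zomega_center_le_scc T L hTL) hWZ),
    le_antisymm ?_ (Subgroup.commutator_mono le_rfl hRL)⟩
  · refine h1.trans (sup_le ?_ le_sup_right)
    intro z hz
    exact gl_trace_mem (sylowCenterClosure p L) _ (T : Subgroup H) L hZab hZp hZL hLZ hWZ hcop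
      (hZ₀Z hz) (fun s hs => hTZ₀ s hs z hz) (fun l hl => h2 z (hZ₀Z hz) l hl)
  · rw [Subgroup.commutator_le]
    intro z hz l hl
    have h3 := Subgroup.inv_mem _ (h2 z hz l hl)
    have e : (l * z * l⁻¹ * z⁻¹)⁻¹ = z * l * z⁻¹ * l⁻¹ := by group
    rw [e] at h3
    exact h3

end Cfsg.Agent.Lib.Helper6
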