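import Mathlib

set_option autoImplicit false

namespace Cfsg.Agent.Lib.Helper6

theorem sa_ker_eq_bot_or_top {G : Type*} [Group G] [IsSimpleGroup G] {M : Type*} [Group M]
    (f : G →* M) : f.ker = ⊥ ∨ f.ker = ⊤ :=
  (f.normal_ker).eq_bot_or_eq_top

theorem sa_comm_of_injective {G : Type*} [Group G] {M : Type*} [CommGroup M] (f : G →* M)
    (hf : Function.Injective f) : IsMulCommutative G :=
  ⟨⟨fun a b => hf (by rw [map_mul, map_mul, mul_comm])⟩⟩

/-- A non-abelian simple group mapping into a symmetric group lands in the alternating group. -/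
theorem sa_range_le_alt {G : Type*} [Group G] [IsSimpleGroup G] (hG : ¬ IsMulCommutative G)
    {α : Type*} [Fintype α] [DecidableEq α] (f : G →* Equiv.Perm α) (g : G) :
    f g ∈ alternatingGroup α := by
  rw [Equiv.Perm.mem_alternatingGroup]
  rcases sa_ker_eq_bot_or_top (Equiv.Perm.sign.comp f) with h | h
  · exfalso
    apply hG
    exact sa_comm_of_injective _ ((MonoidHom.ker_eq_bot_iff _).mp h)
  · have : g ∈ (Equiv.Perm.sign.comp f).ker := by rw [h]; exact Subgroup.mem_top g
    exact (MonoidHom.mem_ker).mp this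

/-- A non-abelian simple group with a nontrivial action on a finite type embeds in its alternating group. -/
theorem sa_embed_alt {G : Type*} [Group G] [IsSimpleGroup G] (hG : ¬ IsMulCommutative G)
    {α : Type*} [Fintype α] [DecidableEq α] (f : G →* Equiv.Perm α) (hf : f.ker ≠ ⊤) :
    ∃ φ : G →* ↥(alternatingGroup α), Function.Injective φ ∧ ∀ g, (φ g : Equiv.Perm α) = f g := by
  refine ⟨f.codRestrict (alternatingGroup α) (sa_range_le_alt hG f), ?_, fun g => rfl⟩
  have hk : f.ker = ⊥ := (sa_ker_eq_bot_or_top f).resolve_right hf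
  intro a b hab
  apply (MonoidHom.ker_eq_bot_iff f).mp hk
  exact congrArg Subtype.val hab

theorem sa_embed_alt_index {G : Type*} [Group G] [Finite G] [IsSimpleGroup G]
    (hG : ¬ IsMulCommutative G) (H : Subgroup G) (hH : H ≠ ⊤) :
    ∃ f : G →* ↥(alternatingGroup (Fin H.index)), Function.Injective f := by
  classical
  have e : (G ⧸ H) ≃ Fin H.index := Finite.equivFinOfCardEq rfl
  let ψ : G →* Equiv.Perm (Fin H.index) :=
    (e.permCongrHom.toMonoidHom).comp (MulAction.toPermHom G (G ⧸ H))
  have hker : ψ.ker ≠ ⊤ := by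
    intro h
    apply hH
    rw [eq_top_iff]
    intro g _
    have hg : g ∈ ψ.ker := by rw [h]; exact Subgroup.mem_top g
    rw [MonoidHom.mem_ker] at hg
    have h1 : MulAction.toPermHom G (G ⧸ H) g = 1 := by
      have : e.permCongrHom (MulAction.toPermHom G (G ⧸ H) g) = 1 := hg
      exact (MulEquiv.map_eq_one_iff _).mp this
    have h2 : g • (QuotientGroup.mk 1 : G ⧸ H) = QuotientGroup.mk 1 := by
      have := congrArg (fun σ : Equiv.Perm (G ⧸ H) => σ (QuotientGroup.mk 1)) h1
      simpa using this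
    have h3 : (QuotientGroup.mk (g * 1) : G ⧸ H) = QuotientGroup.mk 1 := h2
    rw [mul_one, QuotientGroup.eq] at h3
    have : g⁻¹ ∈ H := by simpa using h3
    exact (Subgroup.inv_mem_iff H).mp this
  obtain ⟨φ, hφ, -⟩ := sa_embed_alt hG ψ hker
  exact ⟨φ, hφ⟩

end Cfsg.Agent.Lib.Helper6
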