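import Cfsg.Agent.Lib.Helper6.PermSylow
import Cfsg.Agent.Lib.Helper6.PrimeDegree
import Cfsg.Agent.Lib.Helper6.SimpleAlt

set_option autoImplicit false
set_option linter.style.haveILetI false

namespace Cfsg.Agent.Lib.Helper6

open Subgroup Equiv

theorem ps_card_normalizer_alt {α : Type*} [Fintype α] [DecidableEq α] (hα : 2 ≤ Fintype.card α)
    (p : ℕ) [Fact p.Prime] (hp : p ≠ 2) (Q : Sylow p (Perm α)) :
    2 * Nat.card (normalizer ((Q : Subgroup (Perm α)) : Set (Perm α)) ⊓ alternatingGroup α :
      Subgroup (Perm α)) = Nat.card (normalizer ((Q : Subgroup (Perm α)) : Set (Perm α))) := by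
  have h := (sy_alt_normalizer hα p hp Q).2
  rw [sy_normalizer_subgroupOf_eq _ _ (sy_sylow_le_alt p hp Q), sy_card_subgroupOf] at h
  exact h

section

variable {G : Type*} [Group G] [Finite G] [IsSimpleGroup G]

theorem st_one_lt_card : 1 < Nat.card G := Finite.one_lt_card_iff_nontrivial.mpr inferInstance

/-- A finite simple group whose order is not prime is non-abelian. -/
theorem st_not_comm (h : ¬ (Nat.card G).Prime) : ¬ IsMulCommutative G := by
  intro hc
  have h1 : Nat.card G ≠ 1 := by have := st_one_lt_card (G := G); omega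
  haveI : Fact (Nat.card G).minFac.Prime := ⟨Nat.minFac_prime h1⟩
  obtain ⟨x, hx⟩ := exists_prime_orderOf_dvd_card' (Nat.card G).minFac (Nat.minFac_dvd _)
  have hn : (zpowers x).Normal := by
    constructor
    intro y hy g
    have : g * y * g⁻¹ = y := by
      rw [hc.is_comm.comm g y]; group
    rw [this]; exact hy
  rcases hn.eq_bot_or_eq_top with hb | ht
  · have : x = 1 := by
      have := mem_zpowers x
      rw [hb, Subgroup.mem_bot] at this
      exact this
    rw [this, orderOf_one] at hx
    exact (Nat.minFac_prime h1).ne_one hx.symm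
  · apply h
    have h2 : Nat.card (zpowers x) = Nat.card G := by rw [ht, Subgroup.card_top]
    rw [Nat.card_zpowers, hx] at h2
    rw [← h2]
    exact Nat.minFac_prime h1

theorem st_card_dvd_factorial_index (H : Subgroup G) (hH : H ≠ ⊤) :
    Nat.card G ∣ H.index.factorial := by
  classical
  letI : Fintype (G ⧸ H) := Fintype.ofFinite _
  have hker : (MulAction.toPermHom G (G ⧸ H)).ker = ⊥ := by
    rcases (MonoidHom.normal_ker (MulAction.toPermHom G (G ⧸ H))).eq_bot_or_eq_top with h | h
    · exact h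
    · exfalso
      apply hH
      rw [eq_top_iff, ← h, ← Subgroup.normalCore_eq_ker]
      exact Subgroup.normalCore_le H
  have hinj : Function.Injective (MulAction.toPermHom G (G ⧸ H)) :=
    (MonoidHom.ker_eq_bot_iff _).mp hker
  have h1 : Nat.card (MulAction.toPermHom G (G ⧸ H)).range = Nat.card G :=
    (Nat.card_congr (MonoidHom.ofInjective hinj).toEquiv).symm
  have h2 : H.index = Fintype.card (G ⧸ H) := by
    rw [← Nat.card_eq_fintype_card]; rfl
  rw [← h1, h2, ← Fintype.card_perm, ← Nat.card_eq_fintype_card]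
  exact Subgroup.card_subgroup_dvd_card _

theorem st_one_lt_card_sylow {p : ℕ} [Fact p.Prime] (hp : p ∣ Nat.card G)
    (hnp : ∀ k, Nat.card G ≠ p ^ k) : 1 < Nat.card (Sylow p G) := by
  by_contra hle
  have hsub : Subsingleton (Sylow p G) := Finite.card_le_one_iff_subsingleton.mp (by omega)
  obtain ⟨P⟩ : Nonempty (Sylow p G) := inferInstance
  have hn : (P : Subgroup G).Normal := Sylow.normal_of_subsingleton P
  rcases hn.eq_bot_or_eq_top with h | h
  · exact P.ne_bot_of_dvd_card hp h
  · obtain ⟨k, hk⟩ := P.2.exists_card_eq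
    apply hnp k
    rw [← hk, h, Subgroup.card_top]

theorem st_card_dvd_factorial_sylow {p : ℕ} [Fact p.Prime] (hp : p ∣ Nat.card G)
    (hnp : ∀ k, Nat.card G ≠ p ^ k) : Nat.card G ∣ (Nat.card (Sylow p G)).factorial := by
  obtain ⟨P⟩ : Nonempty (Sylow p G) := inferInstance
  have h1 := st_one_lt_card_sylow hp hnp
  have h2 : Nat.card (Sylow p G) = (normalizer ((P : Subgroup G) : Set G)).index :=
    Sylow.card_eq_index_normalizer P
  rw [h2]
  apply st_card_dvd_factorial_index
  intro h
  rw [h2, h, Subgroup.index_top] at h1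
  omega

/-- Sylow data for a simple group of order `p^k * m`. -/
theorem st_sylow_data (p k m : ℕ) [Fact p.Prime] (hG : Nat.card G = p ^ k * m) (hm : ¬ p ∣ m)
    (hk : 0 < k) (hm1 : 1 < m) :
    ∃ j : ℕ, 0 < j ∧ Nat.card (Sylow p G) = 1 + j * p ∧ (1 + j * p) ∣ m ∧
      p ^ k * m ∣ (1 + j * p).factorial ∧
      ∀ P : Sylow p G, Nat.card (P : Subgroup G) = p ^ k ∧
        Nat.card (normalizer ((P : Subgroup G) : Set G)) * (1 + j * p) = p ^ k * m := by
  have hp : p.Prime := Fact.out
  have hpG : p ∣ Nat.card G := by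
    rw [hG]
    exact dvd_mul_of_dvd_left (dvd_pow_self p (by omega)) m
  have hnp : ∀ k', Nat.card G ≠ p ^ k' := by
    intro k' h
    rw [hG] at h
    have h1 : m ∣ p ^ k' := ⟨p ^ k, by rw [← h]; ring⟩
    obtain ⟨i, -, hi⟩ := (Nat.dvd_prime_pow hp).mp h1
    rcases Nat.eq_zero_or_pos i with h0 | h0
    · rw [h0, pow_zero] at hi; omega
    · apply hm
      rw [hi]
      exact dvd_pow_self p (by omega)
  have h1 := st_one_lt_card_sylow hpG hnp
  have hmod := card_sylow_modEq_one p G
  have hnpeq : Nat.card (Sylow p G) = 1 + (Nat.card (Sylow p G) / p) * p := by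
    have h2 := Nat.div_add_mod (Nat.card (Sylow p G)) p
    unfold Nat.ModEq at hmod
    rw [Nat.mod_eq_of_lt hp.one_lt] at hmod
    rw [hmod, mul_comm] at h2
    omega
  have hPc : ∀ P : Sylow p G, Nat.card (P : Subgroup G) = p ^ k := fun P => sy_card_eq P k m hG hm
  have hdvd : Nat.card (Sylow p G) ∣ m := by
    obtain ⟨P⟩ : Nonempty (Sylow p G) := inferInstance
    have h2 := Sylow.card_dvd_index P
    have h3 := (P : Subgroup G).index_mul_card
    rw [hPc P, hG, mul_comm] at h3
    have h4 : (P : Subgroup G).index = m := Nat.eq_of_mul_eq_mul_left (pow_pos hp.pos k) h3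
    rwa [h4] at h2
  refine ⟨Nat.card (Sylow p G) / p, ?_, hnpeq, ?_, ?_, ?_⟩
  · by_contra h0
    have h00 : Nat.card (Sylow p G) / p = 0 := Nat.eq_zero_of_not_pos h0
    rw [h00, zero_mul] at hnpeq
    omega
  · rw [← hnpeq]; exact hdvd
  · rw [← hnpeq, ← hG]
    exact st_card_dvd_factorial_sylow hpG hnp
  · intro P
    refine ⟨hPc P, ?_⟩
    rw [← hnpeq, ← hG, Sylow.card_eq_index_normalizer P, mul_comm]
    exact Subgroup.index_mul_card _

/-- If `P` is a Sylow subgroup of prime order `p` with `gcd(|N(P)|/p, p - 1) = 1`, then `N(P) = C(P)`;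
impossible in a non-abelian simple group. -/
theorem st_burnside_prime {p : ℕ} [Fact p.Prime] (hG : ¬ IsMulCommutative G) (P : Sylow p G)
    (hP : Nat.card (P : Subgroup G) = p) (c : ℕ)
    (hN : Nat.card (normalizer ((P : Subgroup G) : Set G)) = p * c) (hc : Nat.Coprime c (p - 1)) :
    False := by
  have hp : p.Prime := Fact.out
  have hpG : p ∣ Nat.card G := by
    rw [← hP]; exact Subgroup.card_subgroup_dvd_card _
  apply sy_not_normalizer_le_centralizer hG hpG P
  rw [← Subgroup.relIndex_eq_one]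
  have h1 := sy_relIndex_centralizer_dvd (P : Subgroup G)
  haveI : IsCyclic (P : Subgroup G) := isCyclic_of_prime_card hP
  rw [IsCyclic.card_mulAut, hP, Nat.totient_prime hp] at h1
  have hcommI := sy_comm_of_prime_card (P : Subgroup G) hP
  have hTC : (P : Subgroup G) ≤ centralizer ((P : Subgroup G) : Set G) := by
    intro a ha
    rw [Subgroup.mem_centralizer_iff]
    intro b hb
    exact congrArg Subtype.val (hcommI.is_comm.comm ⟨b, hb⟩ ⟨a, ha⟩)
  have h2 := Subgroup.relIndex_dvd_of_le_left (normalizer ((P : Subgroup G) : Set G)) hTC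
  have h3 : (P : Subgroup G).relIndex (normalizer ((P : Subgroup G) : Set G)) = c := by
    have h4 := ((P : Subgroup G).subgroupOf (normalizer ((P : Subgroup G) : Set G))).index_mul_card
    rw [sy_card_subgroupOf, inf_eq_left.mpr le_normalizer, hP, hN, mul_comm] at h4
    exact Nat.eq_of_mul_eq_mul_left hp.pos h4
  rw [h3] at h2
  exact Nat.eq_one_of_dvd_coprimes hc h2 h1

/-- Embedding in the alternating group on the Sylow `p`-subgroups: if `n_p = n` with `p ≤ n < 2p`,
`p` odd and the Sylow `p`-subgroups have order `p`, then `2 |N_G(P)|` divides `p (p-1) (n-p)!`. -/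
theorem st_normalizer_alt_bound {p : ℕ} [Fact p.Prime] (hG : ¬ IsMulCommutative G) (hp2 : p ≠ 2)
    (P : Sylow p G) (hP : Nat.card (P : Subgroup G) = p) (n : ℕ) (hn : Nat.card (Sylow p G) = n)
    (h1 : p ≤ n) (h2 : n < 2 * p) :
    2 * Nat.card (normalizer ((P : Subgroup G) : Set G)) ∣ p * (p - 1) * (n - p).factorial := by
  classical
  have hp : p.Prime := Fact.out
  set N := normalizer ((P : Subgroup G) : Set G) with hN
  letI : Fintype (G ⧸ N) := Fintype.ofFinite _
  have hidx : N.index = n := by rw [← hn]; exact (Sylow.card_eq_index_normalizer P).symm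
  have hX : Fintype.card (G ⧸ N) = n := by
    rw [← Nat.card_eq_fintype_card]; exact hidx
  have hNtop : N ≠ ⊤ := by
    intro h
    rw [h, Subgroup.index_top] at hidx
    have := hp.two_le
    omega
  have hker : (MulAction.toPermHom G (G ⧸ N)).ker = ⊥ := by
    rcases (MonoidHom.normal_ker (MulAction.toPermHom G (G ⧸ N))).eq_bot_or_eq_top with h | h
    · exact h
    · exfalso
      apply hNtop
      rw [eq_top_iff, ← h, ← Subgroup.normalCore_eq_ker]
      exact Subgroup.normalCore_le N
  have hinj : Function.Injective (MulAction.toPermHom G (G ⧸ N)) :=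
    (MonoidHom.ker_eq_bot_iff _).mp hker
  have hPmap : IsPGroup p ((P : Subgroup G).map (MulAction.toPermHom G (G ⧸ N))) := P.2.map _
  obtain ⟨Q, hQ⟩ := hPmap.exists_le_sylow
  have hQc : Nat.card (Q : Subgroup (Perm (G ⧸ N))) = p :=
    ps_card_sylow (by rw [hX]; exact h1) (by rw [hX]; exact h2) Q
  have hQeq : (P : Subgroup G).map (MulAction.toPermHom G (G ⧸ N)) = Q :=
    Subgroup.eq_of_le_of_card_ge hQ (by rw [Subgroup.card_map_of_injective hinj, hP, hQc])
  have hNle : N.map (MulAction.toPermHom G (G ⧸ N)) ≤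
      normalizer ((Q : Subgroup (Perm (G ⧸ N))) : Set (Perm (G ⧸ N))) ⊓ alternatingGroup (G ⧸ N) := by
    apply le_inf
    · rw [← hQeq]
      exact Subgroup.le_normalizer_map _
    · rintro _ ⟨g, -, rfl⟩
      exact sa_range_le_alt hG _ g
  have h3 := Subgroup.card_dvd_of_le hNle
  rw [Subgroup.card_map_of_injective hinj] at h3
  have h4 := ps_card_normalizer_alt (α := G ⧸ N) (by rw [hX]; have := hp.two_le; omega) p hp2 Q
  have h5 := ps_card_normalizer (α := G ⧸ N) (by rw [hX]; exact h1) (by rw [hX]; exact h2) Q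
  rw [hX] at h5
  rw [← h5, ← h4]
  exact mul_dvd_mul_left 2 h3

end

end Cfsg.Agent.Lib.Helper6
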