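import Mathlib

set_option autoImplicit false

namespace Cfsg.Agent.Lib.Helper6

open Polynomial

section Zsig

/-- The value of the `n`-th cyclotomic polynomial at `a`, as a natural number. -/
noncomputable def zsN (a n : ℕ) : ℕ := ((cyclotomic n ℤ).eval (a : ℤ)).natAbs

theorem zs_cast (a n : ℕ) (ha : 1 < a) :
    ((zsN a n : ℕ) : ℤ) = (cyclotomic n ℤ).eval (a : ℤ) := by
  unfold zsN
  rw [Int.natCast_natAbs, abs_of_pos]
  exact cyclotomic_pos' n (by exact_mod_cast ha)

theorem zs_root (a n r : ℕ) (ha : 1 < a) [Fact r.Prime] (hr : r ∣ zsN a n) :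
    IsRoot (cyclotomic n (ZMod r)) (a : ZMod r) := by
  have h := cyclotomic.eval_apply (a : ℤ) n (Int.castRingHom (ZMod r))
  rw [← zs_cast a n ha] at h
  simp only [eq_intCast, Int.cast_natCast] at h
  rw [IsRoot.def, h]
  exact (ZMod.natCast_eq_zero_iff _ _).2 hr

theorem zs_order (a r e m : ℕ) (ha : 1 < a) [Fact r.Prime] (hm : ¬ r ∣ m)
    (hr : r ∣ zsN a (r ^ e * m)) : orderOf (a : ZMod r) = m := by
  have hroot := zs_root a _ r ha hr
  haveI : NeZero (m : ZMod r) := ⟨fun h => hm ((ZMod.natCast_eq_zero_iff _ _).1 h)⟩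
  have hroot' : IsRoot (cyclotomic m (ZMod r)) (a : ZMod r) := by
    rcases Nat.eq_zero_or_pos e with rfl | he
    · simpa using hroot
    · rw [cyclotomic_mul_prime_pow_eq (ZMod r) hm he, IsRoot.def, eval_pow] at hroot
      exact (pow_eq_zero_iff (Nat.sub_pos_of_lt
        (Nat.pow_lt_pow_right (Fact.out : r.Prime).one_lt (by omega))).ne').1 hroot
  exact ((isRoot_cyclotomic_iff.1 hroot').eq_orderOf).symm

theorem zs_order_dvd (a r e m : ℕ) (ha : 1 < a) [Fact r.Prime] (hm0 : 0 < m) (hm : ¬ r ∣ m)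
    (hr : r ∣ zsN a (r ^ e * m)) : m ∣ r - 1 := by
  have ho := zs_order a r e m ha hm hr
  have hne : (a : ZMod r) ≠ 0 := by
    intro h0
    have := pow_orderOf_eq_one (a : ZMod r)
    rw [ho, h0, zero_pow hm0.ne'] at this
    exact zero_ne_one this
  rw [← ho]; exact ZMod.orderOf_dvd_card_sub_one hne

theorem zs_prim (a n r : ℕ) (ha : 1 < a) (hr : r.Prime) (hrN : r ∣ zsN a n)
    (hrn : ¬ r ∣ n) :
    r ∣ a ^ n - 1 ∧ ∀ k : ℕ, 0 < k → k < n → ¬ r ∣ a ^ k - 1 := by
  haveI : Fact r.Prime := ⟨hr⟩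
  have ho : orderOf (a : ZMod r) = n := zs_order a r 0 n ha hrn (by simpa using hrN)
  have key : ∀ k : ℕ, r ∣ a ^ k - 1 ↔ (a : ZMod r) ^ k = 1 := by
    intro k
    rw [← ZMod.natCast_eq_zero_iff, Nat.cast_sub (Nat.one_le_pow _ _ (by omega)), Nat.cast_pow,
      Nat.cast_one, sub_eq_zero]
  refine ⟨(key n).2 (by rw [← ho]; exact pow_orderOf_eq_one _), fun k hk hkn h => ?_⟩
  have := orderOf_dvd_of_pow_eq_one ((key k).1 h)
  rw [ho] at this
  exact absurd (Nat.le_of_dvd hk this) (by omega)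

theorem zs_cast_sub (a k : ℕ) (ha : 1 < a) : ((a ^ k - 1 : ℕ) : ℤ) = (a : ℤ) ^ k - 1 := by
  rw [Nat.cast_sub (Nat.one_le_pow _ _ (by omega))]; push_cast; ring

theorem zs_dvd (a n : ℕ) (ha : 1 < a) : zsN a n ∣ a ^ n - 1 := by
  have h := cyclotomic.dvd_X_pow_sub_one n ℤ
  have h2 := eval_dvd (x := (a : ℤ)) h
  rw [← zs_cast a n ha] at h2
  simp only [eval_sub, eval_pow, eval_X, eval_one] at h2
  rw [← zs_cast_sub a n ha] at h2
  exact Int.natCast_dvd_natCast.1 h2

theorem zs_dvd2 (a n d : ℕ) (ha : 1 < a) (hd : d ∈ n.properDivisors) :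
    (a ^ d - 1) * zsN a n ∣ a ^ n - 1 := by
  have h := X_pow_sub_one_mul_cyclotomic_dvd_X_pow_sub_one_of_dvd ℤ hd
  have h2 := eval_dvd (x := (a : ℤ)) h
  simp only [eval_mul, eval_sub, eval_pow, eval_X, eval_one] at h2
  rw [← zs_cast a n ha, ← zs_cast_sub a n ha, ← zs_cast_sub a d ha, ← Nat.cast_mul] at h2
  exact Int.natCast_dvd_natCast.1 h2

theorem zs_real (a n : ℕ) (ha : 1 < a) :
    ((zsN a n : ℕ) : ℝ) = (cyclotomic n ℝ).eval (a : ℝ) := by
  have h := cyclotomic.eval_apply (a : ℤ) n (Int.castRingHom ℝ)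
  rw [← zs_cast a n ha] at h
  simpa using h.symm

theorem zs_lb (a n : ℕ) (ha : 1 < a) : (a - 1) ^ n.totient ≤ zsN a n := by
  have h := sub_one_pow_totient_le_cyclotomic_eval (q := (a : ℝ)) (by exact_mod_cast ha) n
  rw [← zs_real a n ha] at h
  have : ((a - 1 : ℕ) : ℝ) = (a : ℝ) - 1 := by rw [Nat.cast_sub ha.le]; simp
  rw [← this] at h
  exact_mod_cast h

theorem zs_ub (a n : ℕ) (ha : 1 < a) : zsN a n ≤ (a + 1) ^ n.totient := by
  have h := cyclotomic_eval_le_add_one_pow_totient (q := (a : ℝ)) (by exact_mod_cast ha) n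
  rw [← zs_real a n ha] at h
  exact_mod_cast h

theorem zs_sq_sub (b : ℕ) (hb : 1 ≤ b) : b ^ 2 - 1 = (b - 1) * (b + 1) := by
  obtain ⟨c, rfl⟩ : ∃ c, b = c + 1 := ⟨b - 1, by omega⟩
  simp only [Nat.add_sub_cancel]
  have : (c + 1) ^ 2 = c * (c + 1 + 1) + 1 := by ring
  rw [this, Nat.add_sub_cancel]

theorem zs_sq (a n r : ℕ) (ha : 1 < a) (hn : 3 ≤ n) (hr : r.Prime) (hrn : r ∣ n)
    (hrN : r ∣ zsN a n) : ¬ r ^ 2 ∣ zsN a n := by
  haveI : Fact r.Prime := ⟨hr⟩
  obtain ⟨e, m, hm, hnm⟩ := Nat.exists_eq_pow_mul_and_not_dvd (by omega : n ≠ 0) r hr.ne_one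
  have he : 0 < e := by
    rcases Nat.eq_zero_or_pos e with rfl | he
    · exfalso; apply hm; simpa [hnm] using hrn
    · exact he
  have hm0 : 0 < m := by
    rcases Nat.eq_zero_or_pos m with rfl | h
    · simp at hnm; omega
    · exact h
  have ho : orderOf (a : ZMod r) = m := zs_order a r e m ha hm (hnm ▸ hrN)
  have hmr : m ∣ r - 1 := zs_order_dvd a r e m ha hm0 hm (hnm ▸ hrN)
  obtain ⟨e', rfl⟩ : ∃ e', e = e' + 1 := ⟨e - 1, by omega⟩
  set d := r ^ e' * m with hd
  have hnd : n = d * r := by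
    rw [hnm, hd, pow_succ]; ring
  have hdpos : 0 < d := Nat.mul_pos (pow_pos hr.pos _) hm0
  have hdp : d ∈ n.properDivisors := by
    rw [Nat.mem_properDivisors]
    refine ⟨⟨r, hnd⟩, ?_⟩
    rw [hnd]; nlinarith [hr.two_le]
  have h1 := zs_dvd2 a n d ha hdp
  set b := a ^ d with hb
  have hbn : a ^ n = b ^ r := by rw [hb, ← pow_mul, hnd]
  rw [hbn] at h1
  have hb1 : 1 < b := Nat.one_lt_pow hdpos.ne' ha
  have hrb : r ∣ b - 1 := by
    rw [← ZMod.natCast_eq_zero_iff, Nat.cast_sub hb1.le, hb, Nat.cast_pow, Nat.cast_one,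
      sub_eq_zero]
    apply orderOf_dvd_iff_pow_eq_one.1
    rw [ho, hd]; exact dvd_mul_left _ _
  intro h2
  rcases hr.eq_two_or_odd' with rfl | hodd
  · have hm1 : m = 1 := Nat.dvd_one.1 (by simpa using hmr)
    subst hm1
    obtain ⟨e'', rfl⟩ : ∃ e'', e' = e'' + 1 := ⟨e' - 1, by
      rcases e' with _ | e'
      · simp at hnm; omega
      · omega⟩
    have hbsq : b = (a ^ (2 ^ e'')) ^ 2 := by
      rw [hb, hd, ← pow_mul]; congr 1; ring
    have hN : zsN a n ∣ b + 1 := by
      rw [zs_sq_sub b hb1.le] at h1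
      exact Nat.dvd_of_mul_dvd_mul_left (by omega) h1
    have h4 : 4 ∣ b + 1 := (by simpa using h2 : 4 ∣ zsN a n).trans hN
    set c := a ^ (2 ^ e'') with hc
    have hcodd : c % 2 = 1 := by
      have hbo : b % 2 = 1 := by omega
      rw [hbsq] at hbo
      rcases Nat.mod_two_eq_zero_or_one c with h | h
      · exfalso
        have : (c ^ 2) % 2 = 0 := by simp [Nat.pow_mod, h]
        omega
      · exact h
    have hc4 : c ^ 2 % 4 = 1 := by
      have h5 : c % 4 = 1 ∨ c % 4 = 3 := by omega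
      rcases h5 with h | h <;> simp [Nat.pow_mod, h]
    rw [hbsq] at h4
    omega
  · have hrb' : ¬ r ∣ b := by
      intro h
      have : r ∣ 1 := by
        have := Nat.dvd_sub h hrb
        rwa [show b - (b - 1) = 1 by omega] at this
      exact hr.one_lt.ne' (Nat.dvd_one.1 this)
    have hlte := padicValNat.pow_sub_pow hodd hb1 hrb hrb' (n := r) hr.ne_zero
    rw [one_pow, padicValNat_self] at hlte
    have hv : r ^ (padicValNat r (b - 1)) ∣ b - 1 := pow_padicValNat_dvd
    have h3 : r ^ (padicValNat r (b - 1) + 2) ∣ b ^ r - 1 := by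
      rw [pow_add]; exact (Nat.mul_dvd_mul hv h2).trans h1
    have hne : b ^ r - 1 ≠ 0 := by
      have : 1 < b ^ r := Nat.one_lt_pow hr.ne_zero hb1
      omega
    have := (padicValNat_dvd_iff_le hne).1 h3
    omega

theorem zs_five (k : ℕ) : 3 * (k + 5) + 2 ≤ 2 ^ (k + 5) := by
  induction k with
  | zero => norm_num
  | succ k ih => rw [pow_succ]; omega

/-- **Zsigmondy's theorem.** -/
theorem zsigmondy (a n : ℕ) (ha : 1 < a) (hn : 1 < n) (h6 : ¬ (a = 2 ∧ n = 6))
    (h2 : ¬ (n = 2 ∧ ∃ m : ℕ, a + 1 = 2 ^ m)) :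
    ∃ r : ℕ, r.Prime ∧ r ∣ a ^ n - 1 ∧ ∀ k : ℕ, 0 < k → k < n → ¬ r ∣ a ^ k - 1 := by
  rcases Nat.lt_or_ge 2 n with hn3 | hn2
  swap
  · have hn2 : n = 2 := by omega
    subst hn2
    rcases Nat.eq_two_pow_or_exists_odd_prime_and_dvd (a + 1) with ⟨k, hk⟩ | ⟨p, hp, hpd, hodd⟩
    · exact absurd ⟨rfl, k, hk⟩ h2
    · refine ⟨p, hp, ?_, ?_⟩
      · rw [zs_sq_sub a ha.le]; exact dvd_mul_of_dvd_right hpd _
      · intro k hk hk2 hd
        have hk1 : k = 1 := by omega
        subst hk1
        rw [pow_one] at hd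
        have h2' : p ∣ 2 := by
          have := Nat.dvd_sub hpd hd
          rwa [show a + 1 - (a - 1) = 2 by omega] at this
        have := (Nat.prime_dvd_prime_iff_eq hp Nat.prime_two).1 h2'
        subst this
        exact absurd hodd (by decide)
  · by_contra hcon
    push_neg at hcon
    have hN2 : 2 ≤ zsN a n := by
      have := sub_one_lt_natAbs_cyclotomic_eval (n := n) (q := a) hn (by omega)
      unfold zsN; omega
    have hdiv : ∀ s : ℕ, s.Prime → s ∣ zsN a n → s ∣ n := by
      intro s hs hsN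
      by_contra hsn
      obtain ⟨h1, h2'⟩ := zs_prim a n s ha hs hsN hsn
      obtain ⟨k, hk, hkn, hkd⟩ := hcon s hs h1
      exact h2' k hk hkn hkd
    obtain ⟨r, hr⟩ : ∃ r, r = (zsN a n).minFac := ⟨_, rfl⟩
    have hrp : r.Prime := hr ▸ Nat.minFac_prime (by omega)
    haveI : Fact r.Prime := ⟨hrp⟩
    have hrN : r ∣ zsN a n := hr ▸ Nat.minFac_dvd _
    have hrn : r ∣ n := hdiv r hrp hrN
    obtain ⟨e, m, hm, hnm⟩ := Nat.exists_eq_pow_mul_and_not_dvd (by omega : n ≠ 0) r hrp.ne_one
    have he : 0 < e := by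
      rcases Nat.eq_zero_or_pos e with rfl | he
      · exfalso; apply hm; simpa [hnm] using hrn
      · exact he
    have hm0 : 0 < m := by
      rcases Nat.eq_zero_or_pos m with rfl | h
      · simp at hnm; omega
      · exact h
    have hmr : m ∣ r - 1 := zs_order_dvd a r e m ha hm0 hm (hnm ▸ hrN)
    have huniq : ∀ s : ℕ, s.Prime → s ∣ zsN a n → s = r := by
      intro s hs hsN
      by_contra hsr
      have hsn := hdiv s hs hsN
      have hsm : s ∣ m := by
        rw [hnm] at hsn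
        exact (Nat.Coprime.dvd_mul_left
          (((Nat.coprime_primes hs hrp).2 hsr).pow_right e)).1 hsn
      have h1 : s ≤ r - 1 := Nat.le_of_dvd (by have := hrp.two_le; omega) (hsm.trans hmr)
      have h2' : r ≤ s := hr ▸ Nat.minFac_le_of_dvd hs.two_le hsN
      have := hrp.two_le
      omega
    have hNr : zsN a n = r := by
      have hpow := Nat.eq_prime_pow_of_unique_prime_dvd (by omega : zsN a n ≠ 0)
        (fun {d} hd hdN => huniq d hd hdN)
      have hsq := zs_sq a n r ha hn3 hrp hrn hrN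
      have hk : (zsN a n).primeFactorsList.length < 2 := by
        by_contra hk
        apply hsq
        rw [hpow]; exact pow_dvd_pow r (by omega)
      have hk1 : (zsN a n).primeFactorsList.length = 1 := by
        rcases Nat.lt_or_ge 0 (zsN a n).primeFactorsList.length with h | h
        · omega
        · have h0 : (zsN a n).primeFactorsList.length = 0 := by omega
          rw [h0, pow_zero] at hpow
          omega
      rw [hk1, pow_one] at hpow
      exact hpow
    have hphi : r - 1 ≤ n.totient := by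
      have := Nat.totient_dvd_of_dvd hrn
      rw [Nat.totient_prime hrp] at this
      exact Nat.le_of_dvd (Nat.totient_pos.2 (by omega)) this
    have hbound := zs_lb a n ha
    rcases Nat.lt_or_ge 2 a with ha3 | ha2
    · have h1 : 2 ^ (r - 1) ≤ (a - 1) ^ n.totient :=
        (Nat.pow_le_pow_right (by norm_num) hphi).trans (Nat.pow_le_pow_left (by omega) _)
      have h2' : r - 1 < 2 ^ (r - 1) := Nat.lt_two_pow_self
      have h3 := sub_one_pow_totient_lt_natAbs_cyclotomic_eval (n := n) (q := a) hn (by omega)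
      have h4 : (a - 1) ^ n.totient < zsN a n := h3
      have := hrp.two_le
      omega
    · have ha2 : a = 2 := by omega
      subst ha2
      have hr2 : r ≠ 2 := by
        intro h
        have h1 : r ∣ 2 ^ n - 1 := hrN.trans (zs_dvd 2 n ha)
        rw [h] at h1
        have h3 : 2 ∣ 2 ^ n := dvd_pow_self 2 (by omega)
        have h4 : 0 < 2 ^ n := by positivity
        omega
      obtain ⟨e', rfl⟩ : ∃ e', e = e' + 1 := ⟨e - 1, by omega⟩
      rcases Nat.eq_zero_or_pos e' with rfl | he'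
      · -- n = r * m
        have hnm' : n = m * r := by rw [hnm]; ring
        have hexp := cyclotomic_expand_eq_cyclotomic_mul hrp hm ℤ
        have hev := congrArg (eval (2 : ℤ)) hexp
        rw [expand_eval, eval_mul, ← hnm'] at hev
        have hc1 : (2 : ℤ) ^ r = ((2 ^ r : ℕ) : ℤ) := by push_cast; ring
        have hc2 : (2 : ℤ) = ((2 : ℕ) : ℤ) := by norm_num
        have h2r : 1 < 2 ^ r := Nat.one_lt_two_pow hrp.ne_zero
        rw [hc1] at hev
        rw [hc2] at hev
        rw [← zs_cast (2 ^ r) m h2r, ← zs_cast 2 n ha, ← zs_cast 2 m ha, ← Nat.cast_mul] at hev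
        have hev' : zsN (2 ^ r) m = zsN 2 n * zsN 2 m := by exact_mod_cast hev
        rw [hNr] at hev'
        have hl := zs_lb (2 ^ r) m h2r
        have hu := zs_ub 2 m ha
        have hf : 0 < m.totient := Nat.totient_pos.2 hm0
        have hr5 : r < 5 := by
          by_contra hr5
          obtain ⟨k, hk5⟩ : ∃ k, r = k + 5 := ⟨r - 5, by omega⟩
          rw [hk5] at hl hev'
          have h5 := zs_five k
          have h6' : (3 * (k + 5)) ^ m.totient < (2 ^ (k + 5) - 1) ^ m.totient :=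
            Nat.pow_lt_pow_left (by omega) hf.ne'
          have h7 : (3 * (k + 5)) ^ m.totient = 3 ^ m.totient * (k + 5) ^ m.totient := mul_pow _ _ _
          have h8 : k + 5 ≤ (k + 5) ^ m.totient := Nat.le_self_pow hf.ne' _
          have h9 : (k + 5) * zsN 2 m ≤ (k + 5) * (2 + 1) ^ m.totient :=
            Nat.mul_le_mul_left _ hu
          have h10 : 3 ^ m.totient * (k + 5) ≤ 3 ^ m.totient * (k + 5) ^ m.totient :=
            Nat.mul_le_mul_left _ h8
          have h11 : (k + 5) * (2 + 1) ^ m.totient = 3 ^ m.totient * (k + 5) := by ring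
          omega
        have hr3 : r = 3 := by
          have := hrp.two_le
          interval_cases r
          · exact absurd rfl hr2
          · rfl
          · exact absurd hrp (by decide)
        subst hr3
        have hm12 : m = 1 ∨ m = 2 := by
          have : m ≤ 2 := Nat.le_of_dvd (by norm_num) hmr
          omega
        rcases hm12 with rfl | rfl
        · have h1 := zs_dvd 2 n ha
          rw [hNr, hnm] at h1
          norm_num at h1
        · exact h6 ⟨rfl, by rw [hnm]; norm_num⟩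
      · -- r ^ 2 ∣ n
        set n' := r ^ e' * m with hn'
        have hnn : n = n' * r := by rw [hnm, hn', pow_succ]; ring
        have hrn' : r ∣ n' := Dvd.dvd.mul_right (dvd_pow_self r he'.ne') m
        have hexp := cyclotomic_expand_eq_cyclotomic hrp hrn' ℤ
        have hev := congrArg (eval (2 : ℤ)) hexp
        rw [expand_eval, ← hnn] at hev
        have hc1 : (2 : ℤ) ^ r = ((2 ^ r : ℕ) : ℤ) := by push_cast; ring
        have hc2 : (2 : ℤ) = ((2 : ℕ) : ℤ) := by norm_num
        have h2r : 1 < 2 ^ r := Nat.one_lt_two_pow hrp.ne_zero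
        rw [hc1] at hev
        rw [hc2] at hev
        rw [← zs_cast (2 ^ r) n' h2r, ← zs_cast 2 n ha] at hev
        have hev' : zsN (2 ^ r) n' = zsN 2 n := by exact_mod_cast hev
        rw [hNr] at hev'
        have hn'1 : 1 < n' := lt_of_lt_of_le hrp.one_lt (Nat.le_of_dvd
          (Nat.mul_pos (pow_pos hrp.pos _) hm0) hrn')
        have h3 := sub_one_pow_totient_lt_natAbs_cyclotomic_eval (n := n') (q := 2 ^ r) hn'1
          (by omega)
        have h4 : (2 ^ r - 1) ^ n'.totient < zsN (2 ^ r) n' := by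
          unfold zsN; exact_mod_cast h3
        have hf : 0 < n'.totient := Nat.totient_pos.2 (by omega)
        have h5 : 2 ^ r - 1 ≤ (2 ^ r - 1) ^ n'.totient := Nat.le_self_pow hf.ne' _
        have h6' : r < 2 ^ r := Nat.lt_two_pow_self
        omega

end Zsig

end Cfsg.Agent.Lib.Helper6
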